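import Cfsg.Agent.Lib.Spor.RuThree.AutDefs

/-!
# The checks of the points fixed with five base points
-/

set_option autoImplicit false
set_option maxRecDepth 100000

namespace CfsgLib.Spor.RuThree

open CfsgLib.Spor.TC AutData

/-- The checks of the steps, the fixed points growing. -/
noncomputable def chainOK (cs : List ((ℕ × ℕ) × (ℕ × ℕ) × List (ℕ × ℕ))) (ss : List (List (ℕ × ℕ)))
    (l : List ℕ) : Bool :=
  List.rec (motive := fun _ => List ℕ → Bool)
    (fun l => List.rec (motive := fun _ => List ℕ → Bool) (fun l => beqWord l fixedAll)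
      (fun s _ ih l => sigStepOK l s && ih (l ++ s.map Prod.snd)) ss l)
    (fun s _ ih l => cntStepOK l s && ih (l ++ s.2.2.map Prod.snd)) cs l

theorem chain_ok : chainOK cntSteps sigSteps [0, 150, b2, b3, b4] = true := by decide +kernel

theorem sort_ok : allFrom (fun i => Nat.blt (sortPt.get 16 i) 4060 && Nat.beq (sortRank.get 16 (sortPt.get 16 i)) i &&
    (Nat.beq i 0 || Nat.blt (sigCode fixedAll (sortPt.get 16 (Nat.sub i 1))) (sigCode fixedAll (sortPt.get 16 i))))
    0 4060 = true := by
  decide +kernel

end CfsgLib.Spor.RuThree
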