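import Cfsg.Agent.Lib.Spor.RuThree.AutCheck0
import Cfsg.Agent.Lib.Spor.RuThree.AutCheck1

/-!
# The automorphisms of the graph fixing a point
-/

set_option autoImplicit false
set_option maxRecDepth 100000

namespace CfsgLib.Spor.RuThree

open CfsgLib.Spor.TC AutData

theorem memNat_complete' {x : ℕ} : ∀ {l : List ℕ}, x ∈ l → memNat x l = true := by
  intro l
  induction l with
  | nil => intro h; cases h
  | cons a l ih =>
    intro h
    change (Nat.beq a x || memNat x l) = true
    rcases List.mem_cons.1 h with rfl | h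
    · simp [Nat.beq_refl]
    · simp [ih h]

/-- The automorphisms of the graph fixing the listed points. -/
noncomputable def FixL (l : List ℕ) : Subgroup (Equiv.Perm V) where
  carrier := {σ | (∀ x y, Adj RuP (σ x) (σ y) ↔ Adj RuP x y) ∧ ∀ a ∈ l, σ (pt a) = pt a}
  one_mem' := ⟨fun _ _ => Iff.rfl, fun _ _ => rfl⟩
  mul_mem' := fun {σ τ} hσ hτ => ⟨fun x y => (hσ.1 _ _).trans (hτ.1 x y), fun a ha => by
    rw [Equiv.Perm.mul_apply, hτ.2 a ha, hσ.2 a ha]⟩
  inv_mem' := fun {σ} hσ => ⟨fun x y => by rw [← hσ.1 (σ⁻¹ x) (σ⁻¹ y)]; simp, fun a ha => by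
    rw [Equiv.Perm.inv_eq_iff_eq, hσ.2 a ha]⟩

theorem mem_FixL {σ : Equiv.Perm V} {l : List ℕ} :
    σ ∈ FixL l ↔ (∀ x y, Adj RuP (σ x) (σ y) ↔ Adj RuP x y) ∧ ∀ a ∈ l, σ (pt a) = pt a := Iff.rfl

/-- A predicate unchanged by the automorphisms fixing the listed points. -/
def Inv (l : List ℕ) (P : ℕ → Bool) : Prop := ∀ σ ∈ FixL l, ∀ z : V, P (σ z).1 = P z.1

theorem adjB_inv {σ : Equiv.Perm V} {l : List ℕ} (hσ : σ ∈ FixL l) (x y : V) :
    adjB (σ x).1 (σ y).1 = adjB x.1 y.1 := by
  refine Bool.eq_iff_iff.2 ?_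
  rw [adjB_iff (σ x).2 (σ y).2, adjB_iff x.2 y.2, pt_self, pt_self, pt_self, pt_self]
  exact hσ.1 x y

theorem inCell_inv {l : List ℕ} (hl : ∀ a ∈ l, a < 4060) (c : ℕ) : Inv l (inCell l c) := by
  intro σ hσ z
  have hfix : ∀ a ∈ l, (a = (σ z).1 ↔ a = z.1) := fun a ha => by
    have e := hσ.2 a ha
    constructor
    · intro h
      have : σ z = σ (pt a) := by rw [e]; exact Fin.ext (h.symm.trans (pt_val (hl a ha)).symm)
      rw [σ.injective this, pt_val (hl a ha)]
    · intro h
      have : pt a = z := Fin.ext ((pt_val (hl a ha)).trans h)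
      rw [← this, e, pt_val (hl a ha)]
  have hmem : memNat (σ z).1 l = memNat z.1 l := by
    refine Bool.eq_iff_iff.2 ⟨fun h => ?_, fun h => ?_⟩
    · have h' := memNat_spec h
      exact memNat_complete' (((hfix _ h').1 rfl) ▸ h')
    · have h' := memNat_spec h
      exact memNat_complete' (((hfix _ h').2 rfl) ▸ h')
  have hsig : ∀ m : List ℕ, (∀ a ∈ m, a ∈ l) → sigCode m (σ z).1 = sigCode m z.1 := by
    intro m
    induction m with
    | nil => intro _; rfl
    | cons a m ih =>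
      intro h
      show Nat.add _ _ = Nat.add _ _
      have ha := h a List.mem_cons_self
      have e : adjB a (σ z).1 = adjB a z.1 := by
        have := adjB_inv hσ (pt a) z
        rwa [hσ.2 a ha, pt_val (hl a ha)] at this
      rw [e]
      congr 2
      exact ih fun b hb => h b (List.mem_cons_of_mem _ hb)
  show (!(memNat _ l) && Nat.beq (sigCode l _) c) = (!(memNat _ l) && Nat.beq (sigCode l _) c)
  rw [hmem, hsig l fun a h => h]

theorem mem_maskList {m z : ℕ} : z ∈ maskList m ↔ z < 4060 ∧ bitB m z = true := by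
  simp [maskList, bitB, List.mem_filter]

theorem mask_spec {l : List ℕ} {p : ℕ × ℕ} (h : maskOK l p = true) (z : ℕ) (hz : z < 4060) :
    bitB p.2 z = inCell l p.1 z :=
  beq_iff_eq.1 (allFrom_spec h z (Nat.zero_le _) (by omega))

theorem mask_inv {l : List ℕ} (hl : ∀ a ∈ l, a < 4060) {p : ℕ × ℕ} (h : maskOK l p = true) :
    Inv l (bitB p.2) := fun σ hσ z => by
  rw [mask_spec h _ (σ z).2, mask_spec h _ z.2, inCell_inv hl p.1 σ hσ z]

theorem cntB_eq (C : List ℕ) (z : ℕ) : cntB C z = C.countP fun y => adjB y z := by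
  induction C with
  | nil => rfl
  | cons y C ih =>
    show Nat.add (Bool.rec 0 1 (adjB y z)) (cntB C z) = _
    rw [ih, List.countP_cons, Nat.add_eq]
    cases adjB y z <;> simp [Nat.add_comm]

theorem cnt_inv {l : List ℕ} {mC : ℕ} (h : Inv l (bitB mC)) (σ : Equiv.Perm V) (hσ : σ ∈ FixL l) (z : V) :
    cntB (maskList mC) (σ z).1 = cntB (maskList mC) z.1 := by
  classical
  have key : ∀ u : V, cntB (maskList mC) u.1 =
      (Finset.univ.filter fun y : V => bitB mC y.1 = true ∧ adjB y.1 u.1 = true).card := by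
    intro u
    rw [cntB_eq, maskList, List.countP_eq_length_filter, ← List.toFinset_card_of_nodup
      ((List.nodup_range.filter _).filter _), ← Finset.card_image_of_injective _ Fin.val_injective]
    congr 1
    ext q
    simp only [Finset.mem_image, Finset.mem_filter, Finset.mem_univ, true_and, List.mem_toFinset, List.mem_filter,
      mem_maskList]
    exact ⟨fun ⟨⟨hq, hm⟩, ha⟩ => ⟨⟨q, List.mem_range.1 hq⟩, ⟨hm, ha⟩, rfl⟩,
      fun ⟨y, hy, e⟩ => e ▸ ⟨⟨List.mem_range.2 y.2, hy.1⟩, hy.2⟩⟩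
  rw [key, key, ← Finset.card_image_of_injective
    (Finset.univ.filter fun y : V => bitB mC y.1 = true ∧ adjB y.1 z.1 = true) σ.injective]
  congr 1
  ext y
  simp only [Finset.mem_image, Finset.mem_filter, Finset.mem_univ, true_and]
  refine ⟨fun hy => ⟨σ⁻¹ y, ⟨?_, ?_⟩, by simp⟩, ?_⟩
  · rw [← h σ hσ]; simpa using hy.1
  · rw [← adjB_inv hσ]; simpa using hy.2
  · rintro ⟨w, ⟨h1, h2⟩, rfl⟩
    exact ⟨(h σ hσ w).trans h1, (adjB_inv hσ w z).trans h2⟩

theorem count_orbit {l : List ℕ} {mC mK v : ℕ} {tgt : List ℕ} (hC : Inv l (bitB mC)) (hK : Inv l (bitB mK))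
    (hok : cntOK mC mK v tgt = true) {b : ℕ} (hb : bitB mK b = true) (hbt : b ∈ tgt) :
    ∀ σ ∈ FixL l, (σ (pt b)).1 ∈ tgt := by
  simp only [cntOK, Bool.and_eq_true, List.all_eq_true, decide_eq_true_eq] at hok
  intro σ hσ
  have hb' : b < 4060 := hok.2 b hbt
  have h1 := allList_spec hok.1 b (mem_maskList.2 ⟨hb', hb⟩)
  rw [memNat_complete' hbt, beq_iff_eq] at h1
  have hKσ : bitB mK (σ (pt b)).1 = true := by rw [hK σ hσ, pt_val hb', hb]
  have h2 := allList_spec hok.1 _ (mem_maskList.2 ⟨(σ (pt b)).2, hKσ⟩)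
  rw [cnt_inv hC σ hσ, pt_val hb', ← h1, beq_iff_eq] at h2
  exact memNat_spec h2

theorem card_step (l : List ℕ) (b : ℕ) (tgt : List ℕ) (h : ∀ σ ∈ FixL l, (σ (pt b)).1 ∈ tgt) :
    Nat.card (FixL l) ≤ tgt.length * Nat.card (FixL (l ++ [b])) := by
  classical
  have e := Nat.card_congr (MulAction.orbitProdStabilizerEquivGroup (FixL l) (pt b))
  rw [Nat.card_prod] at e
  rw [← e]
  refine Nat.mul_le_mul ?_ ?_
  · refine le_trans ?_ (List.toFinset_card_le tgt)
    let f : MulAction.orbit (FixL l) (pt b) → {q // q ∈ tgt.toFinset} := fun o => ⟨o.1.1, by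
      obtain ⟨⟨σ, hσ⟩, ho⟩ := o.2
      rw [List.mem_toFinset, ← ho]
      exact h σ hσ⟩
    have hf : Function.Injective f := fun o o' e => Subtype.ext (Fin.ext (Subtype.ext_iff.1 e))
    refine (Nat.card_le_card_of_injective f hf).trans_eq ?_
    rw [Nat.card_eq_fintype_card, Fintype.card_coe]
  · let f : MulAction.stabilizer (FixL l) (pt b) → FixL (l ++ [b]) := fun σ => ⟨σ.1.1, σ.1.2.1, fun a ha => by
      rcases List.mem_append.1 ha with h | h
      · exact σ.1.2.2 a h
      · rw [List.mem_singleton.1 h]; exact σ.2⟩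
    have hf : Function.Injective f := fun o o' e => Subtype.ext (Subtype.ext (congrArg Subtype.val e :))
    exact Nat.card_le_card_of_injective f hf

theorem fix_all (ss : List (List (ℕ × ℕ))) : ∀ (cs : List ((ℕ × ℕ) × (ℕ × ℕ) × List (ℕ × ℕ))) (l : List ℕ),
    chainOK cs ss l = true → (∀ a ∈ l, a < 4060) → FixL l ≤ FixL fixedAll ∧ ∀ a ∈ fixedAll, a < 4060 := by
  intro cs
  induction cs with
  | nil =>
    induction ss with
    | nil =>
      intro l h hl
      obtain rfl : l = fixedAll := beqWord_iff h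
      exact ⟨le_rfl, hl⟩
    | cons s ss ih =>
      intro l h hl
      change (sigStepOK l s && chainOK [] ss (l ++ s.map Prod.snd)) = true at h
      simp only [Bool.and_eq_true, sigStepOK, List.all_eq_true, decide_eq_true_eq] at h
      obtain ⟨⟨hs, hlt⟩, hrest⟩ := h
      have hl' : ∀ a ∈ l ++ s.map Prod.snd, a < 4060 := fun a ha => by
        rcases List.mem_append.1 ha with h | h
        · exact hl a h
        · obtain ⟨p, hp, rfl⟩ := List.mem_map.1 h; exact hlt p hp
      obtain ⟨h1, h2⟩ := ih (l ++ s.map Prod.snd) hrest hl'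
      refine ⟨le_trans (fun σ hσ => mem_FixL.2 ⟨hσ.1, fun a ha => ?_⟩) h1, h2⟩
      rcases List.mem_append.1 ha with h | h
      · exact hσ.2 a h
      · obtain ⟨p, hp, rfl⟩ := List.mem_map.1 h
        have key : ∀ z : V, inCell l p.1 z.1 = Nat.beq z.1 p.2 := fun z => by
          have := allFrom_spec hs z.1 (Nat.zero_le _) (by omega)
          simp only [List.all_eq_true] at this
          exact beq_iff_eq.1 (this p hp)
        have := inCell_inv hl p.1 σ hσ (pt p.2)
        rw [key, key, pt_val (hlt p hp), Nat.beq_refl] at this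
        exact Fin.ext ((Nat.eq_of_beq_eq_true this).trans (pt_val (hlt p hp)).symm)
  | cons s cs ih =>
    intro l h hl
    change (cntStepOK l s && chainOK cs ss (l ++ s.2.2.map Prod.snd)) = true at h
    simp only [Bool.and_eq_true, cntStepOK, List.all_eq_true] at h
    obtain ⟨⟨⟨hC, hK⟩, hp⟩, hrest⟩ := h
    have hlt : ∀ p ∈ s.2.2, p.2 < 4060 := fun p hp' => by
      have := (hp p hp').1
      simp only [cntOK, Bool.and_eq_true, List.all_eq_true, decide_eq_true_eq] at this
      exact this.2 p.2 List.mem_cons_self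
    have hl' : ∀ a ∈ l ++ s.2.2.map Prod.snd, a < 4060 := fun a ha => by
      rcases List.mem_append.1 ha with h | h
      · exact hl a h
      · obtain ⟨p, hp', rfl⟩ := List.mem_map.1 h; exact hlt p hp'
    obtain ⟨h1, h2⟩ := ih (l ++ s.2.2.map Prod.snd) hrest hl'
    refine ⟨le_trans (fun σ hσ => mem_FixL.2 ⟨hσ.1, fun a ha => ?_⟩) h1, h2⟩
    rcases List.mem_append.1 ha with h | h
    · exact hσ.2 a h
    · obtain ⟨p, hp', rfl⟩ := List.mem_map.1 h
      have := count_orbit (mask_inv hl hC) (mask_inv hl hK) (hp p hp').1 (hp p hp').2 List.mem_cons_self σ hσ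
      exact Fin.ext ((List.mem_singleton.1 this).trans (pt_val (hlt p hp')).symm)

theorem fixedAll_trivial (hl : ∀ a ∈ fixedAll, a < 4060) : FixL fixedAll = ⊥ := by
  refine (Subgroup.eq_bot_iff_forall _).2 fun σ hσ => Equiv.ext fun z => ?_
  have hrow : ∀ i < 4060, sortPt.get 16 i < 4060 ∧ sortRank.get 16 (sortPt.get 16 i) = i ∧
      (i = 0 ∨ sigCode fixedAll (sortPt.get 16 (i - 1)) < sigCode fixedAll (sortPt.get 16 i)) := fun i hi => by
    have h := allFrom_spec sort_ok i (Nat.zero_le _) (by omega)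
    simp only [Bool.and_eq_true, Bool.or_eq_true] at h
    exact ⟨Nat.le_of_ble_eq_true h.1.1, Nat.eq_of_beq_eq_true h.1.2,
      h.2.imp (fun e => Nat.eq_of_beq_eq_true e) (fun e => Nat.le_of_ble_eq_true e)⟩
  let φ : Fin 4060 → V := fun i => ⟨sortPt.get 16 i.1, (hrow i.1 i.2).1⟩
  have hφ : Function.Injective φ := fun i j e => Fin.ext (by
    rw [← (hrow i.1 i.2).2.1, ← (hrow j.1 j.2).2.1]
    exact congrArg _ (congrArg Fin.val e))
  have hmono : ∀ j < 4060, ∀ i < j, sigCode fixedAll (sortPt.get 16 i) < sigCode fixedAll (sortPt.get 16 j) := by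
    intro j
    induction j with
    | zero => intro _ i hi; omega
    | succ j ih =>
      intro hj i hi
      have h := (hrow (j + 1) hj).2.2.resolve_left (Nat.succ_ne_zero j)
      rw [Nat.add_sub_cancel] at h
      rcases Nat.lt_succ_iff_lt_or_eq.1 hi with h' | rfl
      · exact (ih (Nat.lt_of_succ_lt hj) i h').trans h
      · exact h
  obtain ⟨i, hi⟩ := (Finite.injective_iff_surjective.1 hφ) z
  obtain ⟨j, hj⟩ := (Finite.injective_iff_surjective.1 hφ) (σ z)
  have hsame : ∀ m : List ℕ, (∀ a ∈ m, a ∈ fixedAll) → sigCode m (σ z).1 = sigCode m z.1 := by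
    intro m
    induction m with
    | nil => intro _; rfl
    | cons a m ih =>
      intro h
      show Nat.add _ _ = Nat.add _ _
      have ha := h a List.mem_cons_self
      have e : adjB a (σ z).1 = adjB a z.1 := by
        have := adjB_inv hσ (pt a) z
        rwa [hσ.2 a ha, pt_val (hl a ha)] at this
      rw [e]
      congr 2
      exact ih fun b hb => h b (List.mem_cons_of_mem _ hb)
  have he := hsame fixedAll fun a h => h
  rw [← hj, ← hi] at he
  change sigCode fixedAll (sortPt.get 16 j.1) = sigCode fixedAll (sortPt.get 16 i.1) at he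
  rcases lt_trichotomy i.1 j.1 with h | h | h
  · exact absurd he (hmono _ j.2 _ h).ne'
  · rw [Equiv.Perm.one_apply, ← hj, ← hi, Fin.ext h]
  · exact absurd he (hmono _ i.2 _ h).ne

/-- **At most 35942400 automorphisms of the graph fix a point.** -/
theorem card_FixL_le : Nat.card (FixL [0]) ≤ 35942400 := by
  have s1 := stage1_ok
  have s2 := stage2_ok
  have s3 := stage3_ok
  have s4 := stage4_ok
  simp only [Bool.and_eq_true] at s1 s2 s3 s4
  have hb2 : b2 < 4060 := by decide
  have hb3 : b3 < 4060 := by decide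
  have hb4 : b4 < 4060 := by decide
  have hl1 : ∀ a ∈ [0], a < 4060 := by decide
  have hl2 : ∀ a ∈ [0, 150], a < 4060 := by decide
  have hl3 : ∀ a ∈ [0, 150, b2], a < 4060 := by decide
  have hl4 : ∀ a ∈ [0, 150, b2, b3], a < 4060 := by decide
  have hl5 : ∀ a ∈ [0, 150, b2, b3, b4], a < 4060 := by decide
  have t1 := card_step [0] 150 (maskList cell1.2) fun σ hσ => mem_maskList.2 ⟨(σ (pt 150)).2, by
    rw [mask_inv hl1 s1.1.1 σ hσ, pt_val (by norm_num), s1.1.2]⟩
  have t2 := card_step [0, 150] b2 (maskList cell2.2) fun σ hσ => mem_maskList.2 ⟨(σ (pt b2)).2, by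
    rw [mask_inv hl2 s2.1.1 σ hσ, pt_val hb2, s2.1.2]⟩
  have hC3 := mask_inv hl3 s3.1.1.1.1
  have t3 := card_step [0, 150, b2] b3 pts3
    (count_orbit hC3 hC3 s3.1.1.1.2 s3.1.1.2 (memNat_spec s3.1.2))
  have t4 := card_step [0, 150, b2, b3] b4 pts4
    (count_orbit (mask_inv hl4 s4.1.1.1.1.1) (mask_inv hl4 s4.1.1.1.1.2) s4.1.1.1.2 s4.1.1.2 (memNat_spec s4.1.2))
  obtain ⟨h5, hlt⟩ := fix_all sigSteps cntSteps [0, 150, b2, b3, b4] chain_ok hl5
  have t5 : Nat.card (FixL [0, 150, b2, b3, b4]) ≤ 1 := by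
    refine (Subgroup.card_le_of_le h5).trans ?_
    rw [fixedAll_trivial hlt, Subgroup.card_bot]
  rw [Nat.eq_of_beq_eq_true s1.2] at t1
  rw [Nat.eq_of_beq_eq_true s2.2] at t2
  rw [Nat.eq_of_beq_eq_true s3.2] at t3
  rw [Nat.eq_of_beq_eq_true s4.2] at t4
  calc Nat.card (FixL [0]) ≤ 1755 * Nat.card (FixL [0, 150]) := t1
    _ ≤ 1755 * (1024 * (5 * (4 * 1))) := Nat.mul_le_mul_left _ (t2.trans (Nat.mul_le_mul_left _
        (t3.trans (Nat.mul_le_mul_left _ (t4.trans (Nat.mul_le_mul_left _ t5))))))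
    _ = 35942400 := by norm_num

end CfsgLib.Spor.RuThree
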