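import Cfsg.Agent.Lib.Spor.RuThree.AutDefs

/-!
# The checks of the cells of the first four base points
-/

set_option autoImplicit false
set_option maxRecDepth 100000

namespace CfsgLib.Spor.RuThree

open CfsgLib.Spor.TC AutData

theorem stage1_ok : (maskOK [0] cell1 && bitB cell1.2 150 && Nat.beq (maskList cell1.2).length 1755) = true := by
  decide +kernel

theorem stage2_ok : (maskOK [0, 150] cell2 && bitB cell2.2 b2 && Nat.beq (maskList cell2.2).length 1024) = true := by
  decide +kernel

theorem stage3_ok : (maskOK [0, 150, b2] cell3 && cntOK cell3.2 cell3.2 val3 pts3 && bitB cell3.2 b3 &&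
    memNat b3 pts3 && Nat.beq pts3.length 5) = true := by
  decide +kernel

theorem stage4_ok : (maskOK [0, 150, b2, b3] cell4C && maskOK [0, 150, b2, b3] cell4K &&
    cntOK cell4C.2 cell4K.2 val4 pts4 && bitB cell4K.2 b4 && memNat b4 pts4 && Nat.beq pts4.length 4) = true := by
  decide +kernel

end CfsgLib.Spor.RuThree
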