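import Cfsg.Agent.Lib.Spor.RuThree.Graph
import Cfsg.Agent.Lib.Spor.RuThree.AutData

/-!
# Cells of the graph cut out by adjacency to fixed points
-/

set_option autoImplicit false
set_option maxRecDepth 100000

namespace CfsgLib.Spor.RuThree

open CfsgLib.Spor.TC

/-- The bit of a number at a place. -/
noncomputable def bitB (m z : ℕ) : Bool := Nat.beq (Nat.land (Nat.shiftRight m z) 1) 1

/-- The adjacencies to a list of points. -/
noncomputable def sigCode (l : List ℕ) (z : ℕ) : ℕ :=
  List.rec (motive := fun _ => ℕ) 0 (fun x _ ih => Nat.add (Bool.rec 0 1 (adjB x z)) (Nat.mul 2 ih)) l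

/-- The cell of a code. -/
noncomputable def inCell (l : List ℕ) (c z : ℕ) : Bool := !(memNat z l) && Nat.beq (sigCode l z) c

/-- The mask of a cell is right. -/
noncomputable def maskOK (l : List ℕ) (p : ℕ × ℕ) : Bool :=
  allFrom (fun z => bitB p.2 z == inCell l p.1 z) 0 4060

/-- The points of a mask. -/
def maskList (m : ℕ) : List ℕ := (List.range 4060).filter fun z => Nat.beq (Nat.land (Nat.shiftRight m z) 1) 1

/-- The number of neighbours in a mask. -/
noncomputable def cntB (C : List ℕ) (z : ℕ) : ℕ :=
  List.rec (motive := fun _ => ℕ) 0 (fun y _ ih => Nat.add (Bool.rec 0 1 (adjB y z)) ih) C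

/-- The points of a cell with a given count are those listed. -/
noncomputable def cntOK (mC mK v : ℕ) (tgt : List ℕ) : Bool :=
  allList (fun z => memNat z tgt == Nat.beq (cntB (maskList mC) z) v) (maskList mK) &&
    tgt.all (fun z => decide (z < 4060))

/-- The checks of a step by counts. -/
noncomputable def cntStepOK (l : List ℕ) (s : (ℕ × ℕ) × (ℕ × ℕ) × List (ℕ × ℕ)) : Bool :=
  maskOK l s.1 && maskOK l s.2.1 &&
    s.2.2.all (fun p => cntOK s.1.2 s.2.1.2 p.1 [p.2] && bitB s.2.1.2 p.2)

/-- The checks of a step by signatures. -/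
noncomputable def sigStepOK (l : List ℕ) (s : List (ℕ × ℕ)) : Bool :=
  allFrom (fun z => s.all (fun p => inCell l p.1 z == Nat.beq z p.2)) 0 4060 && s.all (fun p => decide (p.2 < 4060))

end CfsgLib.Spor.RuThree
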