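import Cfsg.Agent.Lib.Spor.RuThree.FlagDefs

/-!
# The checks of the flags, part 0
-/

set_option autoImplicit false
set_option maxRecDepth 100000

namespace CfsgLib.Spor.RuThree.FlagData

open CfsgLib.Spor.TC

theorem rows0 : allFrom rowB 0 1500 = true := by decide +kernel
theorem rows1 : allFrom rowB 1500 1500 = true := by decide +kernel
theorem rows2 : allFrom rowB 3000 1500 = true := by decide +kernel

theorem spread_ok : spreadB = true ∧ stepB (sWords.getD 0 []) root root = true ∧
    stepB (sWords.getD 1 []) root root = true ∧ stepB (sWords.getD 2 []) root root = true ∧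
    Nat.blt root 8775 = true ∧ Nat.beq (fx.get 16 root) 150 = true ∧
    (sWords.all fun w => w.all fun x => x == 0 || x == 1 || x == 2 || x == 3 || x == 5) = true := by
  decide +kernel

/-- The class of two flags is listed. -/
theorem two_listed : allFrom (fun q => !(Nat.beq (cls.get 8 q) 1) ||
    memNat q ((spread.getD 1 []).map fun w => spath w (reps.getD 1 0))) 0 8775 = true := by decide +kernel

end CfsgLib.Spor.RuThree.FlagData
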