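import Cfsg.Agent.Lib.Spor.RuThree.Model
import Cfsg.Agent.Lib.Spor.RuThree.FlagData

/-!
# Flags of the point stabiliser
-/

set_option autoImplicit false
set_option maxRecDepth 100000

namespace CfsgLib.Spor.RuThree

open CfsgLib.Spor.TC
open scoped Pointwise

/-- A flag. -/
abbrev Flag : Type := V × Set V

/-- The action on flags. -/
def fact (g : Equiv.Perm V) (f : Flag) : Flag := (g f.1, g '' f.2)

theorem fact_one (f : Flag) : fact 1 f = f := by simp [fact]

theorem fact_mul (g h : Equiv.Perm V) (f : Flag) : fact (g * h) f = fact g (fact h f) := by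
  simp [fact, Set.image_image]

theorem fact_inv {g : Equiv.Perm V} {f f' : Flag} (h : fact g f = f') : fact g⁻¹ f' = f := by
  rw [← h, ← fact_mul, inv_mul_cancel, fact_one]

namespace FlagData

/-- The flag with an index. -/
noncomputable def flag (i : ℕ) : Flag := (pt (fx.get 16 i), {pt (fa.get 16 i), pt (fb.get 16 i)})

/-- The successors by the letters of the stabiliser. -/
noncomputable def nx (j i : ℕ) : ℕ :=
  Bool.rec (Bool.rec (Bool.rec (Bool.rec (nx4.get 16 i) (nx3.get 16 i) (Nat.beq j 3)) (nx2.get 16 i) (Nat.beq j 2))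
    (nx1.get 16 i) (Nat.beq j 1)) (nx0.get 16 i) (Nat.beq j 0)

/-- The successors by the fixing words. -/
noncomputable def sx (j i : ℕ) : ℕ :=
  Bool.rec (Bool.rec (sx2.get 16 i) (sx1.get 16 i) (Nat.beq j 1)) (sx0.get 16 i) (Nat.beq j 0)

/-- A word maps the flag `i` to the flag `k`. -/
noncomputable def stepB (w : List ℕ) (i k : ℕ) : Bool :=
  Nat.blt k 8775 && Nat.beq (wv w (fx.get 16 i)) (fx.get 16 k) &&
    (Nat.beq (wv w (fa.get 16 i)) (fa.get 16 k) && Nat.beq (wv w (fb.get 16 i)) (fb.get 16 k) ||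
      Nat.beq (wv w (fa.get 16 i)) (fb.get 16 k) && Nat.beq (wv w (fb.get 16 i)) (fa.get 16 k))

/-- The code of a flag. -/
noncomputable def code (i : ℕ) : ℕ :=
  Nat.add (Nat.mul (fx.get 16 i) 16777216) (Nat.add (Nat.mul (fa.get 16 i) 4096) (fb.get 16 i))

/-- The successor along a word. -/
noncomputable def spath (w : List ℕ) (i : ℕ) : ℕ :=
  List.rec (motive := fun _ => ℕ) i (fun a _ ih => sx a ih) w

/-- The check at one flag. -/
noncomputable def rowB (i : ℕ) : Bool :=
  Nat.blt (fx.get 16 i) 4060 && Nat.blt (fa.get 16 i) (fb.get 16 i) && Nat.blt (fb.get 16 i) 4060 &&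
    (Nat.beq i 0 || Nat.blt (code (Nat.sub i 1)) (code i)) &&
    stepB [0] i (nx 0 i) && stepB [1] i (nx 1 i) && stepB [2] i (nx 2 i) && stepB [3] i (nx 3 i) &&
    stepB [5] i (nx 4 i) &&
    (Nat.beq i root || Nat.blt (par.get 16 i) 8775 && Nat.blt (depth.get 8 (par.get 16 i)) (depth.get 8 i) &&
      Nat.blt (plet.get 8 i) 5 && Nat.beq (nx (plet.get 8 i) (par.get 16 i)) i) &&
    stepB (sWords.getD 0 []) i (sx 0 i) && stepB (sWords.getD 1 []) i (sx 1 i) &&
    stepB (sWords.getD 2 []) i (sx 2 i) &&
    Nat.blt (cls.get 8 i) 16 && Nat.blt (slet.get 8 i) 3 &&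
    (Nat.beq i (reps.getD (cls.get 8 i) 0) ||
      Nat.blt (sdepth.get 8 (sx (slet.get 8 i) i)) (sdepth.get 8 i) &&
        Nat.beq (cls.get 8 (sx (slet.get 8 i) i)) (cls.get 8 i)) &&
    (!(Nat.beq (cls.get 8 i) 0) || Nat.beq i root) &&
    (!(Nat.beq (cls.get 8 i) 2) || Nat.beq (fx.get 16 i) 150)

/-- No entry equals a number. -/
noncomputable def notInB (x : ℕ) (l : List ℕ) : Bool := !(memNat x l)

/-- The list has no repetitions. -/
noncomputable def nodupB (l : List ℕ) : Bool :=
  List.rec (motive := fun _ => Bool) true (fun a t ih => notInB a t && ih) l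

theorem memNat_complete {x : ℕ} : ∀ {l : List ℕ}, x ∈ l → memNat x l = true := by
  intro l
  induction l with
  | nil => intro h; cases h
  | cons a l ih =>
    intro h
    change (Nat.beq a x || memNat x l) = true
    rcases List.mem_cons.1 h with rfl | h
    · simp [Nat.beq_refl]
    · simp [ih h]

theorem nodupB_spec : ∀ {l : List ℕ}, nodupB l = true → l.Nodup := by
  intro l
  induction l with
  | nil => intro _; exact List.nodup_nil
  | cons a t ih =>
    intro h
    change (!(memNat a t) && nodupB t) = true at h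
    simp only [Bool.and_eq_true, Bool.not_eq_true'] at h
    exact List.nodup_cons.2 ⟨fun hm => by simp [memNat_complete hm] at h, ih h.2⟩

/-- The spread of the classes. -/
noncomputable def spreadB : Bool :=
  allFrom (fun c =>
    nodupB ((spread.getD c []).map fun w => spath w (reps.getD c 0)) &&
    allList (fun k => Nat.beq (cls.get 8 k) c) ((spread.getD c []).map fun w => spath w (reps.getD c 0)) &&
    ((spread.getD c []).all fun w => w.all fun a => Nat.blt a 3) &&
    Nat.blt (reps.getD c 0) 8775 &&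
    (Nat.beq c 0 || Nat.beq c 1 && Nat.beq (spread.getD c []).length 2 ||
      Nat.beq c 2 && Nat.beq (spread.getD c []).length 4 || Nat.beq (spread.getD c []).length 6)) 0 16

end FlagData

end CfsgLib.Spor.RuThree
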