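import Cfsg.Agent.Lib.Spor.RuThree.Model
import Cfsg.Agent.Lib.Spor.RuThree.IsoData
import Cfsg.Agent.Lib.Lie.MultExc.Tits.Action

/-!
# The checks for the isomorphism with the twisted group
-/

set_option autoImplicit false
set_option maxRecDepth 100000
set_option maxHeartbeats 1000000

namespace CfsgLib.Spor.RuThree

open CfsgLib.Lie.MultExc.Tits
open CfsgLib.Spor.TC CfsgLib.Spor.Ru
open IsoData

/-- The five products of roots. -/
def basicRoots : List (List ℕ) := [[6, 5, 7], [8, 4], [2, 1], [0, 3], [7, 5, 6]]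

/-- The roots of a word in the products. -/
def rootsOf (w : List ℕ) : List ℕ := (w.map fun a => basicRoots.getD a []).flatten

/-- The table of an image. -/
def imgTab (i : ℕ) : ℕ := imgRows.getD i 0

/-- A word in the images acting on bit vectors. -/
def imgStep (w : List ℕ) (c : ℕ) : ℕ := w.foldr (fun i c => nibStep (imgTab i) 13 c) c

theorem img_tables : ((List.range 5).all fun i => tableOK (imgTab i) &&
    ((imgWords.getD i []).all fun a => Nat.blt a 5) &&
    ((rootsOf (imgWords.getD i [])).all fun r => Nat.blt r 9) &&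
    (List.range 52).all fun j => Nat.beq (colOf (imgTab i) j)
      ((rootsOf (imgWords.getD i [])).foldr (fun r c => nibStep (rootRows.getD r 0) 13 c) (2 ^ j))) = true := by
  decide +kernel

theorem rels_check :
    ((List.range 52).all fun j =>
      (List.range 4).all (fun i => Nat.beq (imgStep [i, i] (2 ^ j)) (2 ^ j)) &&
      relsT.all (fun r => Nat.beq (imgStep ((List.replicate r.2 r.1).flatten) (2 ^ j)) (2 ^ j)) &&
      (List.range 4).all (fun i => Nat.beq (imgStep [4, i] (2 ^ j)) (imgStep (conjWords.getD i [] ++ [4]) (2 ^ j)))) &&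
    (relsT.all fun r => r.1.all fun a => Nat.blt a 4) && (conjWords.all fun w => w.all fun a => Nat.blt a 4) &&
    conjWords.length == 4 && !(Nat.beq (imgStep [0] (2 ^ 0)) (2 ^ 0) && Nat.beq (imgStep [0] (2 ^ 1)) (2 ^ 1) &&
      Nat.beq (imgStep [0] (2 ^ 7)) (2 ^ 7) && Nat.beq (imgStep [0] (2 ^ 20)) (2 ^ 20)) = true := by
  decide +kernel

theorem conj_check : ((List.range 4).all fun i => allFrom (fun c => Nat.beq (wv [5, i] c)
    (wv (conjWords.getD i [] ++ [5]) c)) 0 4060) = true := by
  decide +kernel

theorem fix_check : (allFrom (fun c => Nat.beq c 0 || Nat.beq c 150 ||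
      !(fixN.all fun w => Nat.beq (wv w c) c)) 0 4060 &&
    allFrom (fun c => Nat.beq c 0 || Nat.beq c 1 || !(fixM.all fun w => Nat.beq (wv w c) c)) 0 4060 &&
    (fixN.all fun w => (w.all fun a => decide (a < 32)) && Nat.beq (wv w 0) 0 && Nat.beq (wv w 150) 150) &&
    (fixM.all fun w => (w.all fun a => decide (a < 32)) && Nat.beq (wv w 0) 0 && Nat.beq (wv w 1) 1)) = true := by
  decide +kernel

end CfsgLib.Spor.RuThree
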