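import Cfsg.Agent.Lib.Spor.RuThree.Model
import Cfsg.Agent.Lib.Spor.RuThree.IsoCheck
import Cfsg.Agent.Lib.Lie.MultExc.Tits.Action
import Cfsg.Agent.Lib.Lie.Chev.Tw.F4Gp

/-!
# The point stabiliser is the twisted group over two elements
-/

set_option autoImplicit false
set_option maxRecDepth 100000
set_option maxHeartbeats 1000000

namespace CfsgLib.Spor.RuThree

open Cfsg.Lie CfsgLib.Lie.Chev CfsgLib.Lie.MultExc.Tits
open CfsgLib.Spor.TC CfsgLib.Spor.Ru
open IsoData
open scoped MatrixGroups

/-- The twisted group over two elements. -/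
abbrev T2 : Type := ↥(twistedF4 (ZMod 2) 1)

theorem basic_mem : ∀ a < 5, wordGL (basicRoots.getD a []) ∈ twistedF4 (ZMod 2) 1 := by
  have hA : wordGL [6, 5, 7] ∈ twistedF4 (ZMod 2) 1 :=
    defWord_mem (w := b2ClassWord 1 f4a f4b f4ab f4aab (1 : ZMod 2) 1)
      (Or.inr ⟨1, 1, Or.inl rfl⟩) (by decide +kernel) (by decide +kernel)
  intro a ha
  interval_cases a
  · exact hA
  · exact defWord_mem (w := f4PairWord 1 f4p1 f4p4 (1 : ZMod 2))
      (Or.inl ⟨1, Or.inl rfl⟩) (by decide +kernel) (by decide +kernel)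
  · exact defWord_mem (w := b2ClassWord 1 f4ma f4mb f4mab f4maab (0 : ZMod 2) 1)
      (Or.inr ⟨0, 1, Or.inr rfl⟩) (by decide +kernel) (by decide +kernel)
  · exact defWord_mem (w := f4PairWord 1 f4m1 f4m4 (1 : ZMod 2))
      (Or.inl ⟨1, Or.inr rfl⟩) (by decide +kernel) (by decide +kernel)
  · rw [show basicRoots.getD 4 [] = [6, 5, 7].reverse from rfl, wordGL_reverse]
    exact inv_mem hA

theorem rootsOf_mem : ∀ {w : List ℕ}, (∀ a ∈ w, a < 5) → wordGL (rootsOf w) ∈ twistedF4 (ZMod 2) 1 := by
  intro w
  induction w with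
  | nil => intro _; simp [rootsOf, wordGL]
  | cons a w ih =>
    intro h
    rw [show rootsOf (a :: w) = basicRoots.getD a [] ++ rootsOf w from rfl, wordGL_append]
    exact mul_mem (basic_mem a (h a List.mem_cons_self)) (ih fun b hb => h b (List.mem_cons_of_mem _ hb))

theorem img_small {i : ℕ} (hi : i < 5) : ∀ a ∈ imgWords.getD i [], a < 5 := by
  have h := img_tables
  simp only [List.all_eq_true, List.mem_range, Bool.and_eq_true] at h
  exact fun a ha => Nat.le_of_ble_eq_true ((h i hi).1.1.2 a ha)

/-- The image of a generator. -/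
noncomputable def imgElt (i : ℕ) : T2 :=
  if h : i < 5 then ⟨wordGL (rootsOf (imgWords.getD i [])), rootsOf_mem (img_small h)⟩ else 1

/-- The matrix of an element. -/
noncomputable def matOf (g : T2) : Matrix chevF4.Idx chevF4.Idx (ZMod 2) :=
  ((g : GL chevF4.Idx (ZMod 2)) : Matrix chevF4.Idx chevF4.Idx (ZMod 2))

theorem imgElt_acts {i : ℕ} (hi : i < 5) : Acts (matOf (imgElt i)) (imgTab i) := by
  have h := img_tables
  simp only [List.all_eq_true, List.mem_range, Bool.and_eq_true] at h
  obtain ⟨⟨⟨hT, -⟩, hr⟩, hcol⟩ := h i hi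
  refine ⟨hT, fun j hj => ?_⟩
  rw [Nat.eq_of_beq_eq_true (hcol j hj), imgElt, dif_pos hi]
  show (wordGL (rootsOf (imgWords.getD i [])) : Matrix chevF4.Idx chevF4.Idx (ZMod 2)).mulVec _ = _
  have h9 : ∀ r ∈ rootsOf (imgWords.getD i []), r < 9 := fun r hr' => Nat.le_of_ble_eq_true (hr r hr')
  clear hcol hr hT h
  generalize rootsOf (imgWords.getD i []) = l at h9
  suffices ∀ l : List ℕ, (∀ r ∈ l, r < 9) →
      l.foldr (fun r c => nibStep (rootRows.getD r 0) 13 c) (2 ^ j) < 2 ^ 52 ∧
        (wordGL l : Matrix chevF4.Idx chevF4.Idx (ZMod 2)).mulVec (vecOf (2 ^ j)) =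
          vecOf (l.foldr (fun r c => nibStep (rootRows.getD r 0) 13 c) (2 ^ j)) from (this l h9).2
  intro l
  induction l with
  | nil => intro _; exact ⟨Nat.pow_lt_pow_right (by norm_num) hj, by simp [wordGL]⟩
  | cons r l ih =>
    intro h
    obtain ⟨h1, h2⟩ := ih fun q hq => h q (List.mem_cons_of_mem _ hq)
    have ha := rootGL_acts (h r List.mem_cons_self)
    refine ⟨nibStep_lt ha.1 _, ?_⟩
    rw [show r :: l = [r] ++ l from rfl, wordGL_append, Units.val_mul, ← Matrix.mulVec_mulVec, h2]
    rw [show wordGL [r] = rootGL r by simp [wordGL], acts_spec ha h1]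
    rfl

theorem ev_acts : ∀ {w : List ℕ}, (∀ a ∈ w, a < 5) → ∀ {j : ℕ}, j < 52 →
    imgStep w (2 ^ j) < 2 ^ 52 ∧
      (matOf (ev imgElt w)).mulVec (vecOf (2 ^ j)) = vecOf (imgStep w (2 ^ j)) := by
  intro w
  induction w with
  | nil => intro _ j hj; exact ⟨Nat.pow_lt_pow_right (by norm_num) hj, by simp [ev, matOf, imgStep]⟩
  | cons a w ih =>
    intro h j hj
    obtain ⟨h1, h2⟩ := ih (fun b hb => h b (List.mem_cons_of_mem _ hb)) hj
    have ha := imgElt_acts (h a List.mem_cons_self)
    refine ⟨nibStep_lt ha.1 _, ?_⟩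
    rw [ev_cons, show matOf (imgElt a * ev imgElt w) = matOf (imgElt a) * matOf (ev imgElt w) from rfl,
      ← Matrix.mulVec_mulVec, h2, acts_spec ha h1]
    rfl

theorem ev_eq_of_step {u v : List ℕ} (hu : ∀ a ∈ u, a < 5) (hv : ∀ a ∈ v, a < 5)
    (h : ∀ j < 52, imgStep u (2 ^ j) = imgStep v (2 ^ j)) : ev imgElt u = ev imgElt v := by
  refine Subtype.ext (Units.ext ?_)
  show matOf (ev imgElt u) = matOf (ev imgElt v)
  refine Matrix.ext fun p q => ?_
  have hq := posI_lt q
  have e := congrFun ((ev_acts hu hq).2.trans ((congrArg vecOf (h _ hq)).trans (ev_acts hv hq).2.symm)) p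
  rwa [vecOf_unit, Matrix.mulVec_single_one, Matrix.mulVec_single_one] at e

/-- The images of the generators of the simple group of index two. -/
noncomputable def tImg (i : ℕ) : T2 := if i < 4 then imgElt i else 1

theorem ev_tImg {w : List ℕ} (h : ∀ a ∈ w, a < 4) : ev tImg w = ev imgElt w :=
  ev_congr fun a ha => if_pos (h a ha)

theorem ev_pow (g : ℕ → T2) (w : List ℕ) : ∀ n : ℕ, ev g w ^ n = ev g (List.replicate n w).flatten
  | 0 => by simp [ev]
  | n + 1 => by rw [pow_succ', ev_pow g w n, List.replicate_succ, List.flatten_cons, ev_append]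

theorem sat_tImg : Sat 4 relsT tImg := by
  have h := rels_check
  simp only [Bool.and_eq_true, List.all_eq_true, List.mem_range] at h
  refine ⟨fun i => ?_, fun i hi => if_neg (Nat.not_lt.2 hi), fun r hr => ?_⟩
  · unfold tImg
    by_cases hi : i < 4
    · rw [if_pos hi, show imgElt i * imgElt i = ev imgElt [i, i] by simp [ev],
        ev_eq_of_step (v := []) (fun a ha => by simp at ha; omega) (by simp)
          fun j hj => (Nat.eq_of_beq_eq_true ((h.1.1.1.1 j hj).1.1 i hi)).trans rfl]
      simp [ev]
    · rw [if_neg hi, one_mul]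
  · have h4 : ∀ a ∈ r.1, a < 4 := fun a ha => Nat.le_of_ble_eq_true (h.1.1.1.2 r hr a ha)
    rw [ev_tImg h4, ev_pow, ev_eq_of_step (v := []) (fun a ha => ?_) (by simp)
      fun j hj => (Nat.eq_of_beq_eq_true ((h.1.1.1.1 j hj).1.2 r hr)).trans rfl]
    · simp [ev]
    · obtain ⟨l, hl, ha⟩ := List.mem_flatten.1 ha
      have := h4 a ((List.eq_of_mem_replicate hl) ▸ ha)
      omega

/-- The map of the simple group into the twisted group. -/
noncomputable def titsMap : Pres 4 relsT →* T2 := presHom sat_tImg

theorem titsMap_ev {w : List ℕ} (hw : ∀ a ∈ w, a < 4) : titsMap (ev (presGen 4 relsT) w) = ev imgElt w := by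
  rw [map_ev, ← ev_tImg hw]
  exact ev_congr fun a _ => presHom_gen sat_tImg a

/-- The map of the simple group into the point stabiliser. -/
noncomputable def stabMap : Pres 4 relsT →* Pres ActR.act.k relsR :=
  subHom (k := 5) (rels := relsR) (rels' := relsT) [0, 1, 2, 3] (by decide +kernel)

theorem stabMap_gen {i : ℕ} (hi : i < 4) : stabMap (presGen 4 relsT i) = presGen ActR.act.k relsR i := by
  refine (presHom_gen (sat_sub (k := 5) (rels' := relsT) (sat_presGen 5 relsR) [0, 1, 2, 3] (by decide +kernel)) i).trans ?_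
  show presGen 5 relsR ([0, 1, 2, 3].getD i 5) = _
  interval_cases i <;> rfl

theorem stabMap_le : stabMap.range ≤ subH := by
  rw [stabMap]
  exact (range_subHom (k := 5) (rels := relsR) _).trans_le presSub_le_subH

theorem fixes_base {ws : List (List ℕ)} {b : ℕ} (hb : b < 4060) (hb0 : b ≠ 0)
    (hscan : allFrom (fun c => Nat.beq c 0 || Nat.beq c b || !(ws.all fun w => Nat.beq (wv w c) c)) 0 4060 = true)
    (hws : (ws.all fun w => (w.all fun a => decide (a < 32)) && Nat.beq (wv w 0) 0 && Nat.beq (wv w b) b) = true)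
    {c : Equiv.Perm V} (hc : c ∈ X) (hcom : ∀ g ∈ X, c * g = g * c) : c (pt b) = pt b := by
  simp only [List.all_eq_true, Bool.and_eq_true, decide_eq_true_eq] at hws
  have hh := allFrom_spec hscan (c (pt b)).1 (Nat.zero_le _) (by have := (c (pt b)).2; omega)
  simp only [Bool.or_eq_true] at hh
  rcases hh with (e | e) | e
  · exfalso
    have e0 : c (pt b) = 0 := Fin.ext (Nat.eq_of_beq_eq_true e)
    exact hb0 (pt_inj hb (by norm_num) ((c.injective (e0.trans (X_fix hc).symm)).trans (pt_self (0 : V)).symm))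
  · exact Fin.ext ((Nat.eq_of_beq_eq_true e).trans (pt_val hb).symm)
  · exfalso
    refine absurd e ?_
    simp only [Bool.not_eq_true', Bool.not_eq_false, List.all_eq_true]
    intro w hw
    obtain ⟨⟨hl, h0⟩, h1⟩ := hws w hw
    have hwX : wp w ∈ X :=
      (suborbit_stab _ (wp_mem_RuP w)).1 (Fin.ext ((wp_apply hl 0).trans (Nat.eq_of_beq_eq_true h0)))
    have := congrArg (fun g : Equiv.Perm V => g (pt b)) (hcom _ hwX)
    simp only [Equiv.Perm.mul_apply, (wp_pt hl hb).1, Nat.eq_of_beq_eq_true h1] at this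
    rw [← wp_apply hl, ← this]
    exact Nat.beq_refl _

theorem X_center_trivial {c : Equiv.Perm V} (hc : c ∈ X) (hcom : ∀ g ∈ X, c * g = g * c) : c = 1 := by
  have h := fix_check
  simp only [Bool.and_eq_true] at h
  have eN : c n0 = n0 := fixes_base (by norm_num) (by norm_num) h.1.1.1 h.1.2 hc hcom
  have eM : c m0 = m0 := fixes_base (by norm_num) (by norm_num) h.1.1.2 h.2 hc hcom
  refine Equiv.ext fun v => ?_
  rcases partition v with ⟨rfl, -, -⟩ | ⟨-, ⟨hm, -⟩ | ⟨hn, -⟩⟩
  · exact X_fix hc
  · obtain ⟨g, hg, rfl⟩ := (inM_iff v).1 hm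
    rw [← Equiv.Perm.mul_apply, hcom g hg, Equiv.Perm.mul_apply, eM]; rfl
  · obtain ⟨g, hg, rfl⟩ := (inN_iff v).1 hn
    rw [← Equiv.Perm.mul_apply, hcom g hg, Equiv.Perm.mul_apply, eN]; rfl

/-- Conjugation on a normal subgroup carried to its model. -/
noncomputable def conjPull {P A : Type*} [Group P] [Group A] (f : P →* A) (hf : Function.Injective f)
    [f.range.Normal] : A →* MulAut P :=
  ((MulAut.congr (MonoidHom.ofInjective hf)).symm.toMonoidHom).comp MulAut.conjNormal

theorem conjPull_apply {P A : Type*} [Group P] [Group A] (f : P →* A) (hf : Function.Injective f)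
    [f.range.Normal] (a : A) (p : P) : f (conjPull f hf a p) = a * f p * a⁻¹ := by
  show f ((MonoidHom.ofInjective hf).symm (MulAut.conjNormal a (MonoidHom.ofInjective hf p))) = _
  rw [MonoidHom.apply_ofInjective_symm, MulAut.conjNormal_apply]
  rfl

theorem card_T2 : Nat.card T2 = 35942400 := by
  have h := (TF4.summary (K := ZMod 2) (m := 0) (by rw [ZMod.card]; norm_num)).2.2.2.1
  simp only [mul_zero, zero_add, pow_one, pow_zero] at h
  rw [h]; norm_num

theorem titsMap_injective : Function.Injective titsMap := by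
  haveI : IsSimpleGroup (Pres 4 relsT) := simple_t
  refine (MonoidHom.ker_eq_bot_iff _).1 ((titsMap.normal_ker.eq_bot_or_eq_top).resolve_right fun h => ?_)
  have h0 : titsMap (presGen 4 relsT 0) = 1 := MonoidHom.mem_ker.1 (h ▸ Subgroup.mem_top _)
  rw [titsMap, presHom_gen, tImg, if_pos (by norm_num : 0 < 4)] at h0
  have hc := rels_check
  rw [Bool.and_eq_true] at hc
  have key : ∀ j < 52, imgStep [0] (2 ^ j) = 2 ^ j := fun j hj => by
    obtain ⟨h1, h2⟩ := ev_acts (w := [0]) (by simp) hj
    have e : matOf (ev imgElt [0]) = 1 := by simp [ev, h0, matOf]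
    rw [e, Matrix.one_mulVec] at h2
    exact (vecOf_inj (Nat.pow_lt_pow_right (by norm_num) hj) h1 h2).symm
  have hlast := hc.2
  rw [key 0 (by norm_num), key 1 (by norm_num), key 7 (by norm_num), key 20 (by norm_num), Nat.beq_refl, Nat.beq_refl,
    Nat.beq_refl, Nat.beq_refl] at hlast
  cases hlast

theorem stabMap_injective : Function.Injective stabMap := by
  haveI : IsSimpleGroup (Pres 4 relsT) := simple_t
  refine (MonoidHom.ker_eq_bot_iff _).1 ((stabMap.normal_ker.eq_bot_or_eq_top).resolve_right fun h => ?_)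
  have h0 : stabMap (presGen 4 relsT 0) = 1 := MonoidHom.mem_ker.1 (h ▸ Subgroup.mem_top _)
  rw [stabMap_gen (by norm_num)] at h0
  have h1 : lp 0 = 1 := by
    have := congrArg ActR.valid.rho h0
    rw [map_one] at this
    exact (ActR.valid.perm_of_lt (A := ActR.act) (show 0 < 5 by norm_num)).trans
      ((presHom_gen ActR.valid.sat 0).symm.trans this)
  have h2 : (lp 0 (pt 3) : ℕ) = 3 := by rw [h1]; rfl
  rw [lp_apply (by norm_num), pt_val (by norm_num)] at h2
  revert h2
  decide +kernel

theorem not_commutative : ¬ ∀ a b : Pres 4 relsT, a * b = b * a := by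
  intro h
  haveI : IsSimpleGroup (Pres 4 relsT) := simple_t
  haveI : Finite (Pres 4 relsT) := Nat.finite_of_card_ne_zero (ne_of_eq_of_ne card_t (by norm_num))
  let _ : CommGroup (Pres 4 relsT) := { (inferInstance : Group (Pres 4 relsT)) with mul_comm := h }
  exact absurd (IsSimpleGroup.prime_card (α := Pres 4 relsT)) (by
    rw [show Nat.card (Pres 4 relsT) = 17971200 from card_t]; norm_num)

theorem letter_five_conj {i : ℕ} (hi : i < 4) :
    ActR.act.letters relsR 5 * presGen ActR.act.k relsR i * (ActR.act.letters relsR 5)⁻¹ =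
      ev (presGen ActR.act.k relsR) (conjWords.getD i []) := by
  rw [mul_inv_eq_iff_eq_mul]
  refine rho_injective ?_
  have hc := conj_check
  simp only [List.all_eq_true, List.mem_range] at hc
  have hr := rels_check
  simp only [Bool.and_eq_true, List.all_eq_true] at hr
  have hl : i < conjWords.length := by rw [beq_iff_eq.1 hr.1.2]; exact hi
  have hs : ∀ a ∈ conjWords.getD i [], a < 4 := fun a ha => by
    rw [List.getD_eq_getElem _ _ hl] at ha
    exact Nat.le_of_ble_eq_true (hr.1.1.2 _ (List.getElem_mem hl) a ha)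
  rw [map_mul, map_mul, map_ev, ActR.valid.rho_letters,
    ev_congr (g := fun x => ActR.valid.rho (presGen ActR.act.k relsR x)) (g' := lp) fun x hx =>
      (presHom_gen ActR.valid.sat x).trans
        (ActR.valid.perm_of_lt (A := ActR.act) (show x < 5 by have := hs x hx; omega)).symm,
    show ActR.valid.rho (presGen ActR.act.k relsR i) = lp i from (presHom_gen ActR.valid.sat i).trans
      (ActR.valid.perm_of_lt (A := ActR.act) (show i < 5 by omega)).symm]
  show lp 5 * lp i = wp (conjWords.getD i []) * lp 5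
  rw [show lp 5 * lp i = wp [5, i] by simp [wp, ev],
    show wp (conjWords.getD i []) * lp 5 = wp (conjWords.getD i [] ++ [5]) by rw [wp_append]; simp [wp, ev]]
  have h5 : ∀ a ∈ [5, i], a < 32 := fun a ha => by simp at ha; omega
  have h6 : ∀ a ∈ conjWords.getD i [] ++ [5], a < 32 := fun a ha => by
    rcases List.mem_append.1 ha with h | h
    · have := hs a h; omega
    · simp at h; omega
  exact Equiv.ext fun c => Fin.ext (by
    rw [wp_apply h5, wp_apply h6]
    exact Nat.eq_of_beq_eq_true (allFrom_spec (hc i hi) c.1 (Nat.zero_le _) (by omega)))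

/-- **The point stabiliser is isomorphic to the twisted group.** -/
theorem nonempty_equiv_T2 : Nonempty (X ≃* T2) := by
  haveI : IsSimpleGroup (Pres 4 relsT) := simple_t
  haveI : Finite T2 := Nat.finite_of_card_ne_zero (by rw [card_T2]; norm_num)
  haveI hfinP : Finite (Pres 4 relsT) := Nat.finite_of_card_ne_zero (ne_of_eq_of_ne card_t (by norm_num))
  haveI : Finite (Pres ActR.act.k relsR) := Nat.finite_of_card_ne_zero (ne_of_eq_of_ne card_r (by norm_num))
  let f1 : Pres 4 relsT →* subH := stabMap.codRestrict subH fun u => stabMap_le ⟨u, rfl⟩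
  have hf1 : Function.Injective f1 := fun a b h => stabMap_injective (congrArg Subtype.val h)
  have hidx : ∀ {A : Type} [Group A] [Finite A] (f : Pres 4 relsT →* A), Function.Injective f →
      Nat.card A = 35942400 → f.range.index = 2 := by
    intro A _ _ f hf hA
    have h := f.range.index_mul_card
    rw [← Nat.card_congr (MonoidHom.ofInjective hf).toEquiv, show Nat.card (Pres 4 relsT) = 17971200 from card_t,
      hA] at h
    omega
  haveI : f1.range.Normal := Subgroup.normal_of_index_eq_two (hidx f1 hf1 card_subH)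
  haveI : titsMap.range.Normal := Subgroup.normal_of_index_eq_two (hidx titsMap titsMap_injective card_T2)
  let α := conjPull f1 hf1
  let β := conjPull titsMap titsMap_injective
  have h5 : ActR.act.letters relsR 5 ∈ subH := Subgroup.subset_closure ⟨5, by simp, rfl⟩
  let w : subH := ⟨_, h5⟩
  have hr := rels_check
  simp only [Bool.and_eq_true, List.all_eq_true, List.mem_range] at hr
  have hαw : α w = β (imgElt 4) := by
    have hset : ∀ φ ψ : Pres 4 relsT →* Pres 4 relsT,
        (∀ i < 4, φ (presGen 4 relsT i) = ψ (presGen 4 relsT i)) → φ = ψ := fun φ ψ h =>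
      MonoidHom.eq_of_eqOn_dense (closure_presGen 4 relsT) (by rintro _ ⟨i, hi, rfl⟩; exact h i hi)
    refine MulEquiv.toMonoidHom_injective (hset _ _ fun i hi => ?_)
    have hl : i < conjWords.length := by rw [beq_iff_eq.1 hr.1.2]; exact hi
    have hs : ∀ a ∈ conjWords.getD i [], a < 4 := fun a ha => by
      rw [List.getD_eq_getElem _ _ hl] at ha
      exact Nat.le_of_ble_eq_true (hr.1.1.2 _ (List.getElem_mem hl) a ha)
    show α w (presGen 4 relsT i) = β (imgElt 4) (presGen 4 relsT i)
    have e1 : α w (presGen 4 relsT i) = ev (presGen 4 relsT) (conjWords.getD i []) := by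
      refine hf1 ((conjPull_apply f1 hf1 w _).trans (Subtype.ext ?_))
      show ActR.act.letters relsR 5 * stabMap (presGen 4 relsT i) * (ActR.act.letters relsR 5)⁻¹ = stabMap _
      rw [stabMap_gen hi, letter_five_conj hi, map_ev]
      exact ev_congr fun a ha => (stabMap_gen (hs a ha)).symm
    have e2 : β (imgElt 4) (presGen 4 relsT i) = ev (presGen 4 relsT) (conjWords.getD i []) := by
      refine titsMap_injective ((conjPull_apply titsMap titsMap_injective _ _).trans ?_)
      rw [titsMap, presHom_gen, ← titsMap, titsMap_ev hs, tImg, if_pos hi, mul_inv_eq_iff_eq_mul,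
        show imgElt 4 * imgElt i = ev imgElt [4, i] by simp [ev],
        show ev imgElt (conjWords.getD i []) * imgElt 4 = ev imgElt (conjWords.getD i [] ++ [4]) by
          rw [ev_append]; simp [ev]]
      refine ev_eq_of_step (fun a ha => by simp at ha; omega) (fun a ha => ?_) fun j hj =>
        Nat.eq_of_beq_eq_true ((hr.1.1.1.1 j hj).2 i hi)
      rcases List.mem_append.1 ha with h | h
      · have := hs a h; omega
      · simp at h; omega
    rw [e1, e2]
  have hgen : ∀ (A : Type) [Group A] (f : Pres 4 relsT →* A) (hf : Function.Injective f) [f.range.Normal]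
      (p : Pres 4 relsT), conjPull f hf (f p) = MulAut.conj p := fun A _ f hf _ p =>
    MulEquiv.ext fun q => hf ((conjPull_apply f hf _ q).trans (by simp [MulAut.conj_apply]))
  have hle : ∀ x : subH, α x ∈ β.range := by
    rintro ⟨x, hx⟩
    induction hx using Subgroup.closure_induction with
    | mem x hx =>
      obtain ⟨a, ha, rfl⟩ := hx
      simp only [Set.mem_setOf_eq, List.mem_cons, List.not_mem_nil, or_false] at ha
      by_cases h4 : a < 4
      · refine ⟨titsMap (presGen 4 relsT a), (hgen _ titsMap titsMap_injective _).trans ?_⟩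
        rw [← hgen _ f1 hf1]
        refine congrArg α (Subtype.ext ?_)
        show stabMap (presGen 4 relsT a) = ActR.act.letters relsR a
        rw [stabMap_gen h4]
        exact (Act.letters_of_lt (show a < ActR.act.k by show a < 5; omega)).symm
      · obtain rfl : a = 5 := by omega
        exact ⟨imgElt 4, hαw.symm⟩
    | one => exact (show α 1 ∈ β.range by rw [map_one]; exact one_mem _)
    | mul x y hx hy ihx ihy =>
      rw [show (⟨x * y, _⟩ : subH) = ⟨x, hx⟩ * ⟨y, hy⟩ from rfl, map_mul]; exact mul_mem ihx ihy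
    | inv x hx ih =>
      rw [show (⟨x⁻¹, _⟩ : subH) = (⟨x, hx⟩ : subH)⁻¹ from rfl, map_inv]; exact inv_mem ih
  have hα : Function.Injective α := by
    refine (MonoidHom.ker_eq_bot_iff _).1 ((Subgroup.eq_bot_iff_forall _).2 fun c hc => ?_)
    have hcp : ∀ p, c * f1 p = f1 p * c := fun p => by
      have := conjPull_apply f1 hf1 c p
      rw [show conjPull f1 hf1 c = 1 from hc] at this
      exact mul_inv_eq_iff_eq_mul.1 this.symm
    have hcen : ∀ x : subH, c * x = x * c := by
      intro x
      have hk : ∀ d ∈ α.ker, d ∈ f1.range → d = 1 := by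
        rintro d hd ⟨p, rfl⟩
        have h1 : MulAut.conj p = 1 := (hgen _ f1 hf1 p).symm.trans hd
        have hp : p ∈ Subgroup.center (Pres 4 relsT) := Subgroup.mem_center_iff.2 fun q => by
          have := DFunLike.congr_fun h1 q
          simp only [MulAut.conj_apply, MulAut.one_apply] at this
          exact (mul_inv_eq_iff_eq_mul.1 this).symm
        rcases (inferInstance : (Subgroup.center (Pres 4 relsT)).Normal).eq_bot_or_eq_top with h | h
        · rw [h, Subgroup.mem_bot] at hp; rw [hp, map_one]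
        · exfalso
          exact not_commutative (fun a b => (Subgroup.mem_center_iff.1 (h ▸ Subgroup.mem_top b) a))
      have hi2 := hidx f1 hf1 card_subH
      have hd : x * c * x⁻¹ * c⁻¹ ∈ α.ker := mul_mem ((α.normal_ker).conj_mem c hc x) (inv_mem hc)
      have hd2 : x * c * x⁻¹ * c⁻¹ ∈ f1.range := by
        have h1 := Subgroup.mul_mem_iff_of_index_two hi2 (a := x * c * x⁻¹) (b := c⁻¹)
        rw [h1, inv_mem_iff, Subgroup.mul_mem_iff_of_index_two hi2, Subgroup.mul_mem_iff_of_index_two hi2,
          inv_mem_iff]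
        tauto
      have := hk _ hd hd2
      rw [mul_inv_eq_one] at this
      exact (mul_inv_eq_iff_eq_mul.1 this).symm
    have hρ : ActR.valid.rho c.1 = 1 := by
      refine X_center_trivial (c := ActR.valid.rho c.1) (by rw [X_eq_map]; exact ⟨c.1, c.2, rfl⟩) fun g hg => ?_
      rw [X_eq_map] at hg
      obtain ⟨u, hu, rfl⟩ := hg
      have := congrArg Subtype.val (hcen ⟨u, hu⟩)
      exact ((map_mul ActR.valid.rho c.1 u).symm.trans (congrArg _ this)).trans (map_mul ActR.valid.rho u c.1)
    exact Subtype.ext (rho_injective (hρ.trans (map_one _).symm))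
  have hrange : α.range ≤ β.range := by
    rintro _ ⟨x, rfl⟩
    exact hle x
  have hcard : Nat.card T2 ≤ Nat.card β.range := by
    have h := Subgroup.card_le_of_le hrange
    rw [← Nat.card_congr (MonoidHom.ofInjective hα).toEquiv, show Nat.card subH = 35942400 from card_subH] at h
    rw [card_T2]; exact h
  have hβ : Function.Injective β := fun a b h =>
    (β.rangeRestrict_surjective.bijective_of_nat_card_le hcard).1 (Subtype.ext h)
  have heq : α.range = β.range := Subgroup.eq_of_le_of_card_ge hrange (by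
    rw [← Nat.card_congr (MonoidHom.ofInjective hα).toEquiv, ← Nat.card_congr (MonoidHom.ofInjective hβ).toEquiv,
      card_T2, show Nat.card subH = 35942400 from card_subH])
  let eX : subH ≃* X := (subH.equivMapOfInjective ActR.valid.rho rho_injective).trans
    (MulEquiv.subgroupCongr X_eq_map.symm)
  exact ⟨eX.symm.trans ((MonoidHom.ofInjective hα).trans ((MulEquiv.subgroupCongr heq).trans
    (MonoidHom.ofInjective hβ).symm))⟩

end CfsgLib.Spor.RuThree
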