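import Cfsg.Agent.Lib.Spor.RuThree.StabM
import Cfsg.Agent.Lib.Spor.RuThree.Iso
import Cfsg.Agent.Lib.Spor.RuThree.AutBound
import Cfsg.Prelude.Def_Spor_Ru

/-!
# The recognition of the Rudvalis group as a rank three group on 4060 points
-/

set_option autoImplicit false
set_option maxRecDepth 100000

namespace CfsgLib.Spor.RuThree

open MulAction

theorem X_le_FixL : X ≤ FixL [0] := fun σ hσ =>
  mem_FixL.2 ⟨fun x y => Setting.adj_map (X_le_RuP hσ) x y, fun a ha => by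
    rw [List.mem_singleton.1 ha]; exact X_fix hσ⟩

theorem FixL_eq : FixL [0] = X :=
  (Subgroup.eq_of_le_of_card_ge X_le_FixL (card_X ▸ card_FixL_le)).symm

theorem eq_RuP {G : Subgroup (Equiv.Perm V)} (S : Setting G) : G = RuP := by
  have key : ∀ (A B : Subgroup (Equiv.Perm V)), Setting A → Setting B → ∀ g ∈ A, g ∈ B := by
    intro A B SA SB g hg
    obtain ⟨p, hp, hp0⟩ := SB.trans (g 0)
    have hmem : p⁻¹ * g ∈ FixL [0] := mem_FixL.2 ⟨fun x y => by
      simp only [Equiv.Perm.mul_apply]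
      rw [← adj_eq SB (p⁻¹ (g x)), Setting.adj_map (inv_mem hp), adj_eq SB, ← adj_eq SA (g x),
        Setting.adj_map hg, adj_eq SA], fun a ha => by
      rw [List.mem_singleton.1 ha, show pt 0 = (0 : V) from rfl, Equiv.Perm.mul_apply, ← hp0]
      simp⟩
    rw [FixL_eq] at hmem
    simpa using mul_mem hp (SB.le hmem)
  exact le_antisymm (fun g hg => key G RuP S setting_RuP g hg) fun g hg => key RuP G setting_RuP S g hg

theorem card_pointStab {n : V} {N : ℕ} (h : {c : V | ∃ g ∈ X, g n = c}.ncard = N) :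
    Nat.card (stabilizer (↥X) n) * N = 35942400 := by
  rw [← card_X, ← Nat.card_congr (orbitProdStabilizerEquivGroup (↥X) n), Nat.card_prod, mul_comm]
  congr 1
  rw [Nat.card_coe_set_eq, ← h]
  exact congrArg Set.ncard (Set.ext fun c => ⟨fun ⟨g, hg, e⟩ => ⟨⟨g, hg⟩, e⟩, fun ⟨g, e⟩ => ⟨g.1, g.2, e⟩⟩)

section

variable {Ω : Type*} [Finite Ω] {G : Subgroup (Equiv.Perm Ω)} {a : Ω}

theorem exists_point (φ : ↥X ≃* ↥(stabilizer (↥G) a)) (b : Ω) {N k : ℕ}
    (hb : (orbit (↥(stabilizer (↥G) a)) b).ncard = N) (hk : k * N = 35942400) (hN : 0 < N) (P : V → Prop)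
    (hP : ∀ L : Subgroup (Equiv.Perm V), L ≤ X → Nat.card L = k → ∃ n, P n ∧ ∀ g ∈ L, g n = n)
    (horb : ∀ n, P n → {c : V | ∃ g ∈ X, g n = c}.ncard = N) :
    ∃ n, P n ∧ ∀ x y : ↥X, (x.1 n = y.1 n ↔ φ x • b = φ y • b) := by
  let L : Subgroup (↥X) := (stabilizer (↥(stabilizer (↥G) a)) b).comap φ.toMonoidHom
  have hL : Nat.card L = k := by
    have e1 : Nat.card L = Nat.card (stabilizer (↥(stabilizer (↥G) a)) b) := by
      refine Nat.card_congr (Equiv.subtypeEquiv φ.toEquiv fun x => ?_)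
      rfl
    have e2 := Nat.card_congr (orbitProdStabilizerEquivGroup (↥(stabilizer (↥G) a)) b)
    rw [Nat.card_prod, Nat.card_coe_set_eq, hb, ← Nat.card_congr φ.toEquiv, card_X, ← e1, mul_comm] at e2
    exact Nat.eq_of_mul_eq_mul_right hN (e2.trans hk.symm)
  obtain ⟨n, hn, hfix⟩ := hP (L.map X.subtype) (Subgroup.map_subtype_le L)
    (by rw [Subgroup.card_map_of_injective X.subtype_injective, hL])
  have hle : L ≤ stabilizer (↥X) n := fun x hx => hfix x.1 ⟨x, hx, rfl⟩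
  have heq : L = stabilizer (↥X) n := Subgroup.eq_of_le_of_card_ge hle (by
    rw [hL]
    exact (Nat.eq_of_mul_eq_mul_right hN ((card_pointStab (horb n hn)).trans hk.symm)).le)
  refine ⟨n, hn, fun x y => ?_⟩
  have h1 : x.1 n = y.1 n ↔ y⁻¹ * x ∈ stabilizer (↥X) n := by
    rw [mem_stabilizer_iff, mul_smul, inv_smul_eq_iff]; rfl
  rw [h1, ← heq]
  show φ (y⁻¹ * x) • b = b ↔ _
  rw [map_mul, map_inv, mul_smul, inv_smul_eq_iff]

end

/-- **The Rudvalis group is determined by its rank three action on 4060 points.** -/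
theorem recognition {Ω : Type*} [Fintype Ω] (hΩ : Fintype.card Ω = 4060) (G : Subgroup (Equiv.Perm Ω))
    [IsPretransitive G Ω] (a : Ω) (e : stabilizer G a ≃* Cfsg.Lie.twistedF4 (ZMod 2) 1) (b c : Ω)
    (hb : (orbit (stabilizer G a) b).ncard = 1755) (hc : (orbit (stabilizer G a) c).ncard = 2304) :
    Cfsg.Spor.IsoRu G := by
  classical
  obtain ⟨e0⟩ := nonempty_equiv_T2
  let φ : ↥X ≃* ↥(stabilizer (↥G) a) := e0.trans e.symm
  have horbN : ∀ n, InN n → {q : V | ∃ g ∈ X, g n = q}.ncard = 1755 := fun n hn => by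
    rw [← ncard_N]
    obtain ⟨g, hg, rfl⟩ := (inN_iff n).1 hn
    refine congrArg Set.ncard (Set.ext fun q => ⟨fun ⟨h, hh, e⟩ => ?_, fun hq => ?_⟩)
    · rw [Set.mem_setOf_eq, ← e, inN_map hh, inN_iff]; exact ⟨g, hg, rfl⟩
    · obtain ⟨h, hh, rfl⟩ := (inN_iff q).1 hq
      exact ⟨h * g⁻¹, mul_mem hh (inv_mem hg), by simp⟩
  have horbM : ∀ n, InM n → {q : V | ∃ g ∈ X, g n = q}.ncard = 2304 := fun n hn => by
    rw [← ncard_M]
    obtain ⟨g, hg, rfl⟩ := (inM_iff n).1 hn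
    refine congrArg Set.ncard (Set.ext fun q => ⟨fun ⟨h, hh, e⟩ => ?_, fun hq => ?_⟩)
    · rw [Set.mem_setOf_eq, ← e, inM_map hh, inM_iff]; exact ⟨g, hg, rfl⟩
    · obtain ⟨h, hh, rfl⟩ := (inM_iff q).1 hq
      exact ⟨h * g⁻¹, mul_mem hh (inv_mem hg), by simp⟩
  obtain ⟨n, hn, keyN⟩ := exists_point φ b (k := 20480) hb (by norm_num) (by norm_num) InN stab_of_index_N horbN
  obtain ⟨m, hm, keyM⟩ := exists_point φ c (k := 15600) hc (by norm_num) (by norm_num) InM stab_of_index_M horbM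
  have hexN : ∀ q, InN q → ∃ x : ↥X, x.1 n = q := fun q hq => by
    obtain ⟨g, hg, rfl⟩ := (inN_iff q).1 hq
    obtain ⟨g', hg', e'⟩ := (inN_iff n).1 hn
    exact ⟨⟨g * g'⁻¹, mul_mem hg (inv_mem hg')⟩, by simp [← e']⟩
  have hexM : ∀ q, InM q → ∃ x : ↥X, x.1 m = q := fun q hq => by
    obtain ⟨g, hg, rfl⟩ := (inM_iff q).1 hq
    obtain ⟨g', hg', e'⟩ := (inM_iff m).1 hm
    exact ⟨⟨g * g'⁻¹, mul_mem hg (inv_mem hg')⟩, by simp [← e']⟩
  let θ : V → Ω := fun q => if h : InN q then φ (hexN q h).choose • b else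
    if h' : InM q then φ (hexM q h').choose • c else a
  have θN : ∀ x : ↥X, θ (x.1 n) = φ x • b := fun x => by
    have h : InN (x.1 n) := (inN_map x.2 n).2 hn
    simp only [θ, dif_pos h]
    exact (keyN _ _).1 (hexN _ h).choose_spec
  have notNM : ∀ q, InM q → ¬ InN q := fun q hq hq' => by
    rcases partition q with ⟨-, h, -⟩ | ⟨-, ⟨-, h⟩ | ⟨-, h⟩⟩
    exacts [h hq, h hq', h hq]
  have θM : ∀ x : ↥X, θ (x.1 m) = φ x • c := fun x => by
    have h : InM (x.1 m) := (inM_map x.2 m).2 hm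
    simp only [θ, dif_neg (notNM _ h), dif_pos h]
    exact (keyM _ _).1 (hexM _ h).choose_spec
  have θ0 : θ 0 = a := by
    rcases partition 0 with ⟨-, h1, h2⟩ | ⟨h, -⟩
    · simp only [θ, dif_neg h2, dif_neg h1]
    · exact absurd rfl h
  have hfixa : ∀ x : ↥X, φ x • a = a := fun x => (φ x).2
  have hne : ∀ (u : Ω), 1 < (orbit (stabilizer G a) u).ncard → ∀ x : ↥X, φ x • u ≠ a := by
    intro u hu x he
    have hua : u = a := MulAction.injective (φ x) (he.trans (hfixa x).symm)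
    have hsub : orbit (stabilizer G a) u ⊆ {a} := by
      rintro _ ⟨g, rfl⟩
      rw [hua]
      exact g.2
    have := Set.ncard_le_ncard hsub
    rw [Set.ncard_singleton] at this
    omega
  have hbc : ∀ x y : ↥X, φ x • b ≠ φ y • c := by
    intro x y he
    have h1 : orbit (stabilizer G a) b = orbit (stabilizer G a) c :=
      orbit_eq_iff.2 ⟨(φ x)⁻¹ * φ y, by
        show ((φ x)⁻¹ * φ y) • c = b
        rw [mul_smul, ← he, inv_smul_smul]⟩
    rw [h1, hc] at hb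
    exact absurd hb (by norm_num)
  have hcase : ∀ q : V, q = 0 ∨ (∃ x : ↥X, q = x.1 n) ∨ (∃ x : ↥X, q = x.1 m) := fun q => by
    rcases partition q with ⟨h, -, -⟩ | ⟨-, ⟨h, -⟩ | ⟨h, -⟩⟩
    · exact Or.inl h
    · obtain ⟨x, hx⟩ := hexM q h; exact Or.inr (Or.inr ⟨x, hx.symm⟩)
    · obtain ⟨x, hx⟩ := hexN q h; exact Or.inr (Or.inl ⟨x, hx.symm⟩)
  have hinj : Function.Injective θ := by
    intro p q hpq
    rcases hcase p with rfl | ⟨x, rfl⟩ | ⟨x, rfl⟩ <;> rcases hcase q with rfl | ⟨y, rfl⟩ | ⟨y, rfl⟩ <;>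
      simp only [θ0, θN, θM] at hpq
    · rfl
    · exact absurd hpq.symm (hne b (by omega) y)
    · exact absurd hpq.symm (hne c (by omega) y)
    · exact absurd hpq (hne b (by omega) x)
    · exact (keyN x y).2 hpq
    · exact absurd hpq (hbc x y)
    · exact absurd hpq (hne c (by omega) x)
    · exact absurd hpq.symm (hbc y x)
    · exact (keyM x y).2 hpq
  have hequiv : ∀ (x : ↥X) (q : V), θ (x.1 q) = φ x • θ q := by
    intro x q
    rcases hcase q with rfl | ⟨y, rfl⟩ | ⟨y, rfl⟩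
    · rw [X_fix x.2, θ0, hfixa]
    · rw [θN, ← Equiv.Perm.mul_apply, show x.1 * y.1 = (x * y).1 from rfl, θN, map_mul, mul_smul]
    · rw [θM, ← Equiv.Perm.mul_apply, show x.1 * y.1 = (x * y).1 from rfl, θM, map_mul, mul_smul]
  let Θ : V ≃ Ω := Equiv.ofBijective θ ((Fintype.bijective_iff_injective_and_card θ).2
    ⟨hinj, by rw [Fintype.card_fin, hΩ]⟩)
  let ψ : Equiv.Perm Ω ≃* Equiv.Perm V := Equiv.permCongrHom Θ.symm
  have hψ : ∀ (g : Equiv.Perm Ω) (q : V), Θ (ψ g q) = g (Θ q) := fun g q => by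
    simp [ψ, Equiv.permCongrHom, Equiv.permCongr_apply]
  have hψx : ∀ x : ↥X, ψ ((φ x : ↥G) : Equiv.Perm Ω) = x.1 := fun x =>
    Equiv.ext fun q => Θ.injective ((hψ _ q).trans (hequiv x q).symm)
  have S : Setting (G.map ψ.toMonoidHom) := by
    refine ⟨fun q => ?_, ?_, fun g hg => ?_⟩
    · obtain ⟨g, hg⟩ := MulAction.exists_smul_eq G a (θ q)
      refine ⟨ψ g.1, ⟨g.1, g.2, rfl⟩, Θ.injective ?_⟩
      rw [hψ]
      show (g.1 : Equiv.Perm Ω) (θ 0) = θ q
      rw [θ0]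
      exact hg
    · rintro _ ⟨g, hg, rfl⟩
      constructor
      · intro h0
        have h1 : (g : Equiv.Perm Ω) a = a := by
          have := hψ g 0
          rw [show ψ g 0 = 0 from h0] at this
          rw [show Θ 0 = a from θ0] at this
          exact this.symm
        have hmem : (⟨g, hg⟩ : ↥G) ∈ stabilizer (↥G) a := h1
        obtain ⟨x, hx⟩ := φ.surjective ⟨⟨g, hg⟩, hmem⟩
        show ψ g ∈ X
        have := hψx x
        rw [hx] at this
        rw [show ψ g = x.1 from this]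
        exact x.2
      · exact X_fix
    · exact ⟨_, (φ ⟨g, hg⟩ : ↥G).2, hψx ⟨g, hg⟩⟩
  obtain ⟨eR⟩ := nonempty_equiv_Ru
  exact ⟨((G.equivMapOfInjective ψ.toMonoidHom ψ.injective).trans (MulEquiv.subgroupCongr (eq_RuP S))).trans eR⟩

end CfsgLib.Spor.RuThree
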