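import Cfsg.Agent.Lib.Spor.Ru.Order
import Cfsg.Agent.Lib.Spor.RuLattice.Iso

/-!
# The Rudvalis group on 4060 points: the point stabiliser and its two orbits
-/

set_option autoImplicit false
set_option maxRecDepth 100000

namespace CfsgLib.Spor.RuThree

open CfsgLib.Spor.TC CfsgLib.Spor.Ru MulAction

/-- The points. -/
abbrev V : Type := Fin 4060

/-- The point with a number. -/
def pt (i : ℕ) : V := ⟨i % 4060, Nat.mod_lt _ (by norm_num)⟩

theorem pt_val {i : ℕ} (h : i < 4060) : (pt i : ℕ) = i := Nat.mod_eq_of_lt h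

theorem pt_self (c : V) : pt c = c := Fin.ext (pt_val c.2)

theorem pt_inj {i j : ℕ} (hi : i < 4060) (hj : j < 4060) (h : pt i = pt j) : i = j := by
  rw [← pt_val hi, h, pt_val hj]

/-- The table of a letter. -/
noncomputable def T (x c : ℕ) : ℕ := ActR.act.T x c

/-- The permutation of a letter. -/
noncomputable def lp (x : ℕ) : Equiv.Perm V := ActR.valid.perm x

theorem lp_apply {x : ℕ} (hx : x < 32) (c : V) : (lp x c : ℕ) = T x c :=
  ActR.valid.perm_apply (A := ActR.act) (show x < ActR.act.K from hx) c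

theorem lp_pt {x c : ℕ} (hx : x < 32) (hc : c < 4060) : lp x (pt c) = pt (T x c) := by
  refine Fin.ext ?_
  have h := lp_apply hx (pt c)
  rw [pt_val hc] at h
  rw [h, pt_val (h ▸ (lp x (pt c)).2)]

theorem T_lt {x c : ℕ} (hx : x < 32) (hc : c < 4060) : T x c < 4060 := by
  have h := lp_apply hx (pt c)
  rw [pt_val hc] at h
  exact h ▸ (lp x (pt c)).2

/-- The permutation of a word. -/
noncomputable def wp (w : List ℕ) : Equiv.Perm V := ev lp w

/-- A word acting on numbers. -/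
noncomputable def wv (w : List ℕ) (c : ℕ) : ℕ := ActR.act.wact w c

theorem wp_apply {w : List ℕ} (hw : ∀ x ∈ w, x < 32) (c : V) : (wp w c : ℕ) = wv w c :=
  ActR.valid.wact_eq (A := ActR.act) hw c

theorem wp_pt {w : List ℕ} (hw : ∀ x ∈ w, x < 32) {c : ℕ} (hc : c < 4060) :
    wp w (pt c) = pt (wv w c) ∧ wv w c < 4060 := by
  have h := wp_apply hw (pt c)
  rw [pt_val hc] at h
  have hlt : wv w c < 4060 := h ▸ (wp w (pt c)).2
  exact ⟨Fin.ext (by rw [h, pt_val hlt]), hlt⟩

theorem wp_nil : wp [] = 1 := by simp [wp, ev]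

theorem wp_append (u v : List ℕ) : wp (u ++ v) = wp u * wp v := by simp [wp, ev_append]

/-- The group on 4060 points. -/
noncomputable def RuP : Subgroup (Equiv.Perm V) := ActR.valid.rho.range

theorem lp_mem_RuP (x : ℕ) : lp x ∈ RuP := ⟨_, ActR.valid.rho_letters x⟩

theorem wp_mem {K : Subgroup (Equiv.Perm V)} {w : List ℕ} (h : ∀ x ∈ w, lp x ∈ K) : wp w ∈ K :=
  list_prod_mem (fun g hg => by
    obtain ⟨x, hx, rfl⟩ := List.mem_map.1 hg
    exact h x hx)

theorem wp_mem_RuP (w : List ℕ) : wp w ∈ RuP := wp_mem fun x _ => lp_mem_RuP x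

theorem card_RuP : Nat.card RuP = 145926144000 :=
  (Nat.card_congr (MonoidHom.ofInjective rho_injective).toEquiv).symm.trans card_r

theorem nonempty_equiv_Ru : Nonempty (RuP ≃* Cfsg.Spor.Ru) := by
  obtain ⟨-, -, -, ⟨e⟩⟩ := RuLattice.ru_facts
  exact ⟨(MonoidHom.ofInjective rho_injective).symm.trans e⟩

/-- The letters of the point stabiliser. -/
def hLet : List ℕ := [0, 1, 2, 3, 5]

/-- The point stabiliser. -/
noncomputable def X : Subgroup (Equiv.Perm V) := Subgroup.closure (lp '' {x | x ∈ hLet})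

theorem lp_mem_X {x : ℕ} (hx : x ∈ hLet) : lp x ∈ X := Subgroup.subset_closure ⟨x, hx, rfl⟩

theorem wp_mem_X {w : List ℕ} (hw : ∀ x ∈ w, x ∈ hLet) : wp w ∈ X := wp_mem fun x hx => lp_mem_X (hw x hx)

theorem X_eq_map : X = subH.map ActR.valid.rho := by
  rw [subH, MonoidHom.map_closure, Set.image_image]
  exact congrArg Subgroup.closure (Set.image_congr fun x _ => (ActR.valid.rho_letters x).symm)

theorem X_le_RuP : X ≤ RuP := by
  rw [X_eq_map]
  exact Subgroup.map_le_range _ _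

theorem card_X : Nat.card X = 35942400 := by
  rw [X_eq_map]
  exact (Subgroup.card_map_of_injective rho_injective).trans card_subH

theorem suborbit_stab (g : Equiv.Perm V) (hg : g ∈ RuP) : g 0 = 0 ↔ g ∈ X := by
  obtain ⟨u, rfl⟩ := hg
  letI : MulAction (Pres ActR.act.k relsR) (Fin ActR.act.n) := actionR
  obtain ⟨S, h0, -, -⟩ := exists_suborbitsR
  have ha : S.a = (0 : V) := Fin.ext h0
  rw [X_eq_map]
  refine Iff.trans ?_ (Subgroup.mem_map_iff_mem rho_injective).symm
  refine Iff.trans ?_ (S.mem_iff u)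
  rw [ha]
  exact Iff.rfl

theorem X_fix {g : Equiv.Perm V} (hg : g ∈ X) : g 0 = 0 := (suborbit_stab g (X_le_RuP hg)).2 hg

theorem RuP_trans (x y : V) : ∃ g ∈ RuP, g x = y := exists_moving x y

/-- The orbit of 1755 points. -/
def InN (c : V) : Prop := ActR.part2.memB c.1 = true

/-- The orbit of 2304 points. -/
def InM (c : V) : Prop := ActR.part1.memB c.1 = true

noncomputable instance : DecidablePred InN := fun c => inferInstanceAs (Decidable (_ = true))

noncomputable instance : DecidablePred InM := fun c => inferInstanceAs (Decidable (_ = true))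

/-- The base point of the orbit of 1755 points. -/
def n0 : V := pt 150

/-- The base point of the orbit of 2304 points. -/
def m0 : V := pt 1

theorem parts_orbit {L : Level} (hL : L ∈ [ActR.part1, ActR.part2]) :
    ActR.act.orbitOK L = true ∧ L.gens = hLet := by
  have h := ActR.parts_ok
  simp only [Act.orbitsOK, ActR.parts, Bool.and_eq_true] at h
  obtain ⟨⟨⟨-, -, h1, h2, -⟩, -⟩, -⟩ := h
  simp only [List.mem_cons, List.not_mem_nil, or_false] at hL
  rcases hL with rfl | rfl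
  exacts [⟨h1.2, rfl⟩, ⟨h2.2, rfl⟩]

theorem orbit_iff {L : Level} (hL : L ∈ [ActR.part1, ActR.part2]) (b : V) (hb : (b : ℕ) = L.base) :
    (∀ c : V, (∃ g ∈ X, g b = c) ↔ L.memB c = true) ∧ {c : V | ∃ g ∈ X, g b = c}.ncard = L.size := by
  obtain ⟨hok, hg⟩ := parts_orbit hL
  obtain ⟨b', hb', hiff, hcard⟩ := orbit_eq_level (A := ActR.act) (G := Equiv.Perm (Fin ActR.act.n))
    (g := ActR.valid.perm) L (fun x hx c => ActR.valid.perm_apply hx c) hok
  obtain rfl : b' = b := Fin.ext (hb'.trans hb.symm)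
  rw [hg] at hiff hcard
  have key : ∀ c : V, c ∈ orbit (Subgroup.closure (ActR.valid.perm '' {x | x ∈ hLet})) b' ↔ ∃ g ∈ X, g b' = c :=
    fun c => ⟨fun ⟨g, h⟩ => ⟨g.1, g.2, h⟩, fun ⟨g, hg, h⟩ => ⟨⟨g, hg⟩, h⟩⟩
  exact ⟨fun c => (key c).symm.trans (hiff c),
    (congrArg Set.ncard (Set.ext fun c => (key c).symm)).trans hcard⟩

theorem inN_iff (c : V) : InN c ↔ ∃ g ∈ X, g n0 = c :=
  ((orbit_iff (L := ActR.part2) (by simp) n0 rfl).1 c).symm

theorem inM_iff (c : V) : InM c ↔ ∃ g ∈ X, g m0 = c :=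
  ((orbit_iff (L := ActR.part1) (by simp) m0 rfl).1 c).symm

theorem ncard_N : {c : V | InN c}.ncard = 1755 :=
  (congrArg Set.ncard (Set.ext inN_iff)).trans (orbit_iff (L := ActR.part2) (by simp) n0 rfl).2

theorem ncard_M : {c : V | InM c}.ncard = 2304 :=
  (congrArg Set.ncard (Set.ext inM_iff)).trans (orbit_iff (L := ActR.part1) (by simp) m0 rfl).2

theorem partition_check : (allFrom (fun c => Nat.beq c 0 && !(ActR.part1.memB c) && !(ActR.part2.memB c) ||
    !(Nat.beq c 0) && xor (ActR.part1.memB c) (ActR.part2.memB c)) 0 4060) = true := by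
  decide +kernel

theorem partition (c : V) : (c = 0 ∧ ¬ InM c ∧ ¬ InN c) ∨
    (c ≠ 0 ∧ ((InM c ∧ ¬ InN c) ∨ (InN c ∧ ¬ InM c))) := by
  have h := allFrom_spec partition_check c.1 (Nat.zero_le _) (by omega)
  have hz : Nat.beq c.1 0 = true ↔ c = 0 :=
    ⟨fun e => Fin.ext (Nat.eq_of_beq_eq_true e), fun e => by subst e; rfl⟩
  simp only [InM, InN]
  generalize Nat.beq c.1 0 = z at h hz
  generalize ActR.part1.memB c.1 = p at h
  generalize ActR.part2.memB c.1 = q at h
  cases z <;> cases p <;> cases q <;> simp_all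

theorem inN_map {g : Equiv.Perm V} (hg : g ∈ X) (c : V) : InN (g c) ↔ InN c := by
  rw [inN_iff, inN_iff]
  constructor
  · rintro ⟨h, hh, e⟩
    exact ⟨g⁻¹ * h, mul_mem (inv_mem hg) hh, by rw [Equiv.Perm.mul_apply, e, ← Equiv.Perm.mul_apply, inv_mul_cancel]; rfl⟩
  · rintro ⟨h, hh, e⟩
    exact ⟨g * h, mul_mem hg hh, by rw [Equiv.Perm.mul_apply, e]⟩

theorem inM_map {g : Equiv.Perm V} (hg : g ∈ X) (c : V) : InM (g c) ↔ InM c := by
  rw [inM_iff, inM_iff]
  constructor
  · rintro ⟨h, hh, e⟩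
    exact ⟨g⁻¹ * h, mul_mem (inv_mem hg) hh, by rw [Equiv.Perm.mul_apply, e, ← Equiv.Perm.mul_apply, inv_mul_cancel]; rfl⟩
  · rintro ⟨h, hh, e⟩
    exact ⟨g * h, mul_mem hg hh, by rw [Equiv.Perm.mul_apply, e]⟩

end CfsgLib.Spor.RuThree
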