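import Cfsg.Agent.Lib.Spor.RuThree.SylDefs

/-!
# The checks of the Sylow 5-subgroups, part 1
-/

set_option autoImplicit false
set_option maxRecDepth 100000

namespace CfsgLib.Spor.RuThree.SylData

open CfsgLib.Spor.TC

theorem rows2 : allFrom rowB 4000 2000 = true := by decide +kernel
theorem rows3 : allFrom rowB 6000 2000 = true := by decide +kernel

end CfsgLib.Spor.RuThree.SylData
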