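import Cfsg.Agent.Lib.Spor.RuThree.SylDefs

/-!
# The checks of the Sylow 5-subgroups, part 4
-/

set_option autoImplicit false
set_option maxRecDepth 100000

namespace CfsgLib.Spor.RuThree.SylData

open CfsgLib.Spor.TC

theorem cases_ok : allFrom caseB 0 cases.length = true := by decide +kernel

theorem rels_ok : allFrom relsB 0 4060 = true := by decide +kernel

theorem dTree_ok : allFrom dTree.rowB 0 5201 = true := by decide +kernel

theorem sTree_ok : allFrom sTree.rowB 0 1201 = true := by decide +kernel

theorem misc_ok : miscB = true := by decide +kernel

end CfsgLib.Spor.RuThree.SylData
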