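import Cfsg.Agent.Lib.Spor.RuThree.StabN
import Cfsg.Agent.Lib.Spor.RuThree.SylCheck0
import Cfsg.Agent.Lib.Spor.RuThree.SylCheck1
import Cfsg.Agent.Lib.Spor.RuThree.SylCheck2
import Cfsg.Agent.Lib.Spor.RuThree.SylCheck3
import Cfsg.Agent.Lib.Spor.RuThree.SylCheck4
import Mathlib.GroupTheory.Transfer

/-!
# Subgroups of index 2304 of the point stabiliser fix a point
-/

set_option autoImplicit false
set_option maxRecDepth 100000

namespace CfsgLib.Spor.RuThree

open CfsgLib.Spor.TC CfsgLib.Spor.Ru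
open CfsgLib.Spor.RuThree.FlagData (memNat_complete nodupB nodupB_spec)

theorem wp_eq_of_check {u v : List ℕ} (hu : ∀ x ∈ u, x < 32) (hv : ∀ x ∈ v, x < 32)
    (h : ∀ c < 4060, wv u c = wv v c) : wp u = wp v :=
  Equiv.ext fun c => Fin.ext (by rw [wp_apply hu, wp_apply hv, h c.1 c.2])

theorem wp_pow (w : List ℕ) : ∀ n : ℕ, wp w ^ n = wp (List.replicate n w).flatten
  | 0 => by simp [wp_nil]
  | n + 1 => by rw [pow_succ', wp_pow w n, List.replicate_succ, List.flatten_cons, wp_append]

theorem pow_apply_wpow {w : List ℕ} (hw : ∀ x ∈ w, x < 32) (c : V) :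
    ∀ n : ℕ, ((wp w ^ n) c : ℕ) = pwv w n c
  | 0 => by rw [pow_zero]; rfl
  | n + 1 => by
    rw [pow_succ', Equiv.Perm.mul_apply, wp_apply hw, pow_apply_wpow hw c n]
    rfl

theorem lp_sq {x : ℕ} (hx : x < 4) : lp x * lp x = 1 := by
  have h := ActR.valid.sat.sq x
  have e : lp x = ActR.valid.invPerm x := ActR.valid.perm_of_lt (A := ActR.act) (show x < 5 by omega)
  rw [e]; exact h

theorem wp_reverse : ∀ {w : List ℕ}, (∀ x ∈ w, x < 4) → wp w.reverse = (wp w)⁻¹ := by
  intro w
  induction w with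
  | nil => intro _; simp [wp_nil]
  | cons a w ih =>
    intro h
    rw [List.reverse_cons, wp_append, ih fun x hx => h x (List.mem_cons_of_mem _ hx),
      show a :: w = [a] ++ w from rfl, wp_append, mul_inv_rev]
    congr 1
    have : wp [a] = lp a := by simp [wp, ev]
    rw [this]
    exact eq_inv_of_mul_eq_one_left (lp_sq (h a List.mem_cons_self))

theorem wp_mem_X_of_fix {w : List ℕ} (hw : ∀ x ∈ w, x < 32) (h0 : wv w 0 = 0) : wp w ∈ X :=
  (suborbit_stab _ (wp_mem_RuP w)).1 (Fin.ext ((wp_apply hw 0).trans h0))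

/-- A tree of pairs bounds a group containing its words from below. -/
theorem PairTree.card_le (P : PairTree) (hw : P.wordsB = true) (hrow : allFrom P.rowB 0 P.n = true)
    (hroot : P.root < P.n) (K : Subgroup (Equiv.Perm V)) (hK : ∀ w ∈ P.words, wp w ∈ K) : P.n ≤ Nat.card K := by
  simp only [PairTree.wordsB, List.all_eq_true, decide_eq_true_eq] at hw
  have hr : ∀ i < P.n, P.rowB i = true := fun i hi => allFrom_spec hrow i (Nat.zero_le _) (by omega)
  have hxy : ∀ i < P.n, P.x i < 4060 ∧ P.y i < 4060 := fun i hi => by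
    have h := hr i hi
    simp only [PairTree.rowB, Bool.and_eq_true] at h
    exact ⟨Nat.le_of_ble_eq_true h.1.1.1, Nat.le_of_ble_eq_true h.1.1.2⟩
  have hreach : ∀ i < P.n, ∃ g ∈ K, g (pt (P.x P.root)) = pt (P.x i) ∧ g (pt (P.y P.root)) = pt (P.y i) := by
    intro i
    induction' hd : P.dep i using Nat.strong_induction_on with d ih generalizing i
    intro hi
    by_cases he : i = P.root
    · subst he; exact ⟨1, one_mem _, rfl, rfl⟩
    have h := hr i hi
    simp only [PairTree.rowB, Bool.and_eq_true, Bool.or_eq_true] at h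
    obtain ⟨-, e | ⟨⟨⟨⟨h1, h2⟩, h3⟩, h4⟩, h5⟩⟩ := h
    · exact absurd (Nat.eq_of_beq_eq_true e) he
    obtain ⟨g, hg, gx, gy⟩ := ih _ (hd ▸ Nat.le_of_ble_eq_true h2) _ rfl (Nat.le_of_ble_eq_true h1)
    have hwm : P.words.getD (P.lt i) [] ∈ P.words := by
      rw [List.getD_eq_getElem _ _ (Nat.le_of_ble_eq_true h3)]; exact List.getElem_mem _
    have hp := hxy _ (Nat.le_of_ble_eq_true h1)
    refine ⟨_, mul_mem (hK _ hwm) hg, ?_, ?_⟩
    · rw [Equiv.Perm.mul_apply, gx, (wp_pt (hw _ hwm) hp.1).1, Nat.eq_of_beq_eq_true h4]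
    · rw [Equiv.Perm.mul_apply, gy, (wp_pt (hw _ hwm) hp.2).1, Nat.eq_of_beq_eq_true h5]
  choose g hg gx gy using hreach
  have hmono : ∀ k < P.n, ∀ i < k, P.x i * 4096 + P.y i < P.x k * 4096 + P.y k := by
    intro k
    induction k with
    | zero => intro _ i hi; omega
    | succ k ih =>
      intro hk i hi
      have h := hr (k + 1) hk
      simp only [PairTree.rowB, Bool.and_eq_true, Bool.or_eq_true] at h
      rcases h.1.2 with e | e
      · exact absurd (Nat.eq_of_beq_eq_true e) (Nat.succ_ne_zero _)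
      · have e' : P.x k * 4096 + P.y k < P.x (k + 1) * 4096 + P.y (k + 1) := Nat.le_of_ble_eq_true e
        rcases Nat.lt_succ_iff_lt_or_eq.1 hi with h' | rfl
        · exact (ih (Nat.lt_of_succ_lt hk) i h').trans e'
        · exact e'
  have hinj : Function.Injective fun i : Fin P.n => (⟨g i.1 i.2, hg i.1 i.2⟩ : K) := by
    intro i k hik
    have e : g i.1 i.2 = g k.1 k.2 := congrArg Subtype.val hik
    have ex := pt_inj (hxy _ i.2).1 (hxy _ k.2).1 ((gx _ i.2).symm.trans (by rw [e, gx _ k.2]))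
    have ey := pt_inj (hxy _ i.2).2 (hxy _ k.2).2 ((gy _ i.2).symm.trans (by rw [e, gy _ k.2]))
    rcases lt_trichotomy i.1 k.1 with h | h | h
    · have := hmono _ k.2 _ h; omega
    · exact Fin.ext h
    · have := hmono _ i.2 _ h; omega
  simpa using Nat.card_le_card_of_injective _ hinj

/-- The image of a set of points. -/
noncomputable def img (g : Equiv.Perm V) (s : Finset V) : Finset V := s.image g

theorem img_one (s : Finset V) : img 1 s = s := by simp [img]

theorem img_mul (g h : Equiv.Perm V) (s : Finset V) : img (g * h) s = img g (img h s) := by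
  simp [img, Finset.image_image]

theorem img_inv {g : Equiv.Perm V} {s t : Finset V} (h : img g s = t) : img g⁻¹ t = s := by
  rw [← h, ← img_mul, inv_mul_cancel, img_one]

namespace SylData

/-- The set with an index. -/
noncomputable def quad (i : ℕ) : Finset V := ((ql i).map pt).toFinset

theorem row (i : ℕ) (hi : i < 14976) : rowB i = true := by
  rcases Nat.lt_or_ge i 2000 with h | h
  · exact allFrom_spec rows0 i (Nat.zero_le _) (by omega)
  rcases Nat.lt_or_ge i 4000 with h1 | h1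
  · exact allFrom_spec rows1 i h (by omega)
  rcases Nat.lt_or_ge i 6000 with h2 | h2
  · exact allFrom_spec rows2 i h1 (by omega)
  rcases Nat.lt_or_ge i 8000 with h3 | h3
  · exact allFrom_spec rows3 i h2 (by omega)
  rcases Nat.lt_or_ge i 10000 with h4 | h4
  · exact allFrom_spec rows4 i h3 (by omega)
  rcases Nat.lt_or_ge i 12000 with h5 | h5
  · exact allFrom_spec rows5 i h4 (by omega)
  rcases Nat.lt_or_ge i 14000 with h6 | h6
  · exact allFrom_spec rows6 i h5 (by omega)
  · exact allFrom_spec rows7 i h6 (by omega)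

/-- The data of one row. -/
structure RowOK (i : ℕ) : Prop where
  lt01 : q0.get 16 i < q1.get 16 i
  lt12 : q1.get 16 i < q2.get 16 i
  lt23 : q2.get 16 i < q3.get 16 i
  lt3 : q3.get 16 i < 4060
  mono : i ≠ 0 → code (i - 1) < code i
  next : ∀ j < 5, stepB [hLet.getD j 0] i (nx j i) = true
  up : i ≠ root → par.get 16 i < 14976 ∧ depth.get 8 (par.get 16 i) < depth.get 8 i ∧ plet.get 8 i < 4 ∧
    nx (plet.get 8 i) (par.get 16 i) = i
  nnext : ∀ j < 2, stepB (nw j) i (nm j i) = true
  hrid : rid.get 8 i < cases.length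
  hlet : nlet.get 8 i < 2
  down : (∃ r < cases.length, i = repOf r) ∨
    ndepth.get 8 (nm (nlet.get 8 i) i) < ndepth.get 8 i

theorem rowOK {i : ℕ} (hi : i < 14976) : RowOK i := by
  have h := row i hi
  simp only [rowB, Bool.and_eq_true, Bool.or_eq_true] at h
  obtain ⟨⟨⟨⟨⟨⟨⟨⟨⟨⟨⟨⟨⟨⟨⟨h01, h12⟩, h23⟩, h3⟩, hmono⟩, s0⟩, s1⟩, s2⟩, s3⟩, s4⟩, hup⟩, t0⟩, t1⟩, hc⟩,
    hl⟩, hdown⟩ := h
  refine ⟨Nat.le_of_ble_eq_true h01, Nat.le_of_ble_eq_true h12, Nat.le_of_ble_eq_true h23,
    Nat.le_of_ble_eq_true h3, fun hne => ?_, fun j hj => ?_, fun hne => ?_, fun j hj => ?_,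
    Nat.le_of_ble_eq_true hc, Nat.le_of_ble_eq_true hl, ?_⟩
  · rcases hmono with e | e
    · exact absurd (Nat.eq_of_beq_eq_true e) hne
    · exact Nat.le_of_ble_eq_true e
  · interval_cases j
    exacts [s0, s1, s2, s3, s4]
  · rcases hup with e | ⟨⟨⟨e1, e2⟩, e3⟩, e4⟩
    · exact absurd (Nat.eq_of_beq_eq_true e) hne
    · exact ⟨Nat.le_of_ble_eq_true e1, Nat.le_of_ble_eq_true e2, Nat.le_of_ble_eq_true e3, Nat.eq_of_beq_eq_true e4⟩
  · interval_cases j
    exacts [t0, t1]
  · rcases hdown with e | e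
    · exact Or.inl ⟨_, Nat.le_of_ble_eq_true hc, Nat.eq_of_beq_eq_true e⟩
    · exact Or.inr (Nat.le_of_ble_eq_true e)

theorem RowOK.sorted {i : ℕ} (h : RowOK i) : (ql i).Pairwise (· < ·) := by
  have := h.lt01
  have := h.lt12
  have := h.lt23
  simp [ql]
  omega

theorem RowOK.small {i : ℕ} (h : RowOK i) : ∀ q ∈ ql i, q < 4060 := by
  have := h.lt01
  have := h.lt12
  have := h.lt23
  have := h.lt3
  simp [ql]
  omega

theorem card_quad {i : ℕ} (hi : i < 14976) : (quad i).card = 4 := by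
  have r := rowOK hi
  rw [quad, List.toFinset_card_of_nodup]
  · simp [ql]
  · exact List.Nodup.map_on (fun a ha b hb e => pt_inj (r.small a ha) (r.small b hb) e)
      (r.sorted.imp fun h => h.ne)

theorem code_strict {i k : ℕ} (hk : k < 14976) (h : i < k) : code i < code k := by
  induction k with
  | zero => exact absurd h (Nat.not_lt_zero _)
  | succ k ih =>
    have := (rowOK hk).mono (Nat.succ_ne_zero _)
    rw [Nat.succ_sub_one] at this
    rcases Nat.lt_succ_iff_lt_or_eq.1 h with h' | rfl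
    · exact (ih (Nat.lt_of_succ_lt hk) h').trans this
    · exact this

theorem quad_inj {i k : ℕ} (hi : i < 14976) (hk : k < 14976) (h : quad i = quad k) : i = k := by
  have ri := rowOK hi
  have rk := rowOK hk
  have e : (ql i).toFinset = (ql k).toFinset := by
    have hv : ∀ j, (RowOK j) → (quad j).image Fin.val = (ql j).toFinset := by
      intro j rj
      ext q
      simp only [quad, Finset.mem_image, List.mem_toFinset, List.mem_map]
      constructor
      · rintro ⟨v, ⟨a, ha, rfl⟩, rfl⟩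
        rwa [pt_val (rj.small a ha)]
      · exact fun hq => ⟨pt q, ⟨q, hq, rfl⟩, pt_val (rj.small q hq)⟩
    rw [← hv i ri, ← hv k rk, h]
  have hl : ql i = ql k :=
    (List.perm_of_nodup_nodup_toFinset_eq (ri.sorted.imp fun h => h.ne) (rk.sorted.imp fun h => h.ne) e).eq_of_pairwise
      (fun a b _ _ h1 h2 => absurd h2 h1.asymm) ri.sorted rk.sorted
  have hc : code i = code k := by
    simp only [ql, List.cons.injEq, and_true] at hl
    obtain ⟨e0, e1, e2, e3⟩ := hl
    simp only [code, e0, e1, e2, e3]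
  rcases lt_trichotomy i k with hlt | heq | hlt
  · exact absurd hc (code_strict hk hlt).ne
  · exact heq
  · exact absurd hc (code_strict hi hlt).ne'

theorem step_spec {w : List ℕ} (hw : ∀ x ∈ w, x < 32) {i k : ℕ} (hi : i < 14976) (h : stepB w i k = true) :
    k < 14976 ∧ img (wp w) (quad i) = quad k := by
  simp only [stepB, Bool.and_eq_true] at h
  have hk : k < 14976 := Nat.le_of_ble_eq_true h.1
  refine ⟨hk, Finset.eq_of_subset_of_card_le (fun v hv => ?_) (le_of_eq ?_)⟩
  · simp only [img, quad, Finset.mem_image, List.mem_toFinset, List.mem_map] at hv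
    obtain ⟨u, ⟨a, ha, rfl⟩, rfl⟩ := hv
    simp only [quad, List.mem_toFinset, List.mem_map]
    exact ⟨wv w a, memNat_spec (allList_spec h.2 a ha), ((wp_pt hw ((rowOK hi).small a ha)).1).symm⟩
  · rw [img, Finset.card_image_of_injective _ (wp w).injective, card_quad hi, card_quad hk]

theorem hLet_getD : ∀ j < 5, hLet.getD j 0 ∈ hLet ∧ hLet.getD j 0 < 32 := by decide

/-- The orbit of the root set. -/
theorem orbit_root : {s | ∃ g ∈ X, img g (quad root) = s} = quad '' Set.Iio 14976 := by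
  have hroot : root < 14976 := by decide +kernel
  refine Set.Subset.antisymm ?_ ?_
  · rintro s ⟨g, hg, rfl⟩
    suffices ∀ i < 14976, ∃ k < 14976, img g (quad i) = quad k by
      obtain ⟨k, hk, e⟩ := this root hroot
      exact ⟨k, hk, e.symm⟩
    induction hg using Subgroup.closure_induction with
    | mem x hx =>
      obtain ⟨l, hl, rfl⟩ := hx
      obtain ⟨j, hj, rfl⟩ : ∃ j < 5, hLet.getD j 0 = l :=
        (by decide : ∀ l ∈ hLet, ∃ j < 5, hLet.getD j 0 = l) l hl
      intro i hi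
      obtain ⟨hk, e⟩ := step_spec (w := [hLet.getD j 0]) (fun x hx => by
        rw [List.mem_singleton.1 hx]; exact (hLet_getD j hj).2) hi ((rowOK hi).next j hj)
      refine ⟨_, hk, ?_⟩
      rw [← e]; simp [wp, ev]
    | one => exact fun i hi => ⟨i, hi, img_one _⟩
    | mul x y _ _ ihx ihy =>
      intro i hi
      obtain ⟨k, hk, e⟩ := ihy i hi
      obtain ⟨k', hk', e'⟩ := ihx k hk
      exact ⟨k', hk', by rw [img_mul, e, e']⟩
    | inv x _ ihx =>
      intro i hi
      choose t ht he using ihx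
      let φ : Fin 14976 → Fin 14976 := fun a => ⟨t a.1 a.2, ht a.1 a.2⟩
      have hinj : Function.Injective φ := fun a b hab => Fin.ext (quad_inj a.2 b.2 (by
        have hv : quad (φ a).1 = quad (φ b).1 := by rw [hab]
        have := (he a.1 a.2).trans (hv.trans (he b.1 b.2).symm)
        simpa [← img_mul, img_one] using congrArg (img x⁻¹) this))
      obtain ⟨a, ha⟩ := (Finite.injective_iff_surjective.1 hinj) ⟨i, hi⟩
      refine ⟨a.1, a.2, img_inv ?_⟩
      rw [he a.1 a.2]
      exact congrArg quad (congrArg Fin.val ha)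
  · rintro f ⟨i, hi, rfl⟩
    induction' hd : depth.get 8 i using Nat.strong_induction_on with d ih generalizing i
    by_cases hr : i = root
    · subst hr; exact ⟨1, one_mem _, img_one _⟩
    obtain ⟨hp, hlt, hj, he⟩ := (rowOK hi).up hr
    obtain ⟨g, hg, eg⟩ := ih _ (hd ▸ hlt) _ hp rfl
    have hj5 : plet.get 8 i < 5 := by omega
    obtain ⟨-, e⟩ := step_spec (w := [hLet.getD (plet.get 8 i) 0]) (fun x hx => by
      rw [List.mem_singleton.1 hx]; exact (hLet_getD _ hj5).2) hp ((rowOK hp).next _ hj5)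
    rw [he] at e
    exact ⟨_, mul_mem (wp_mem_X (w := [hLet.getD (plet.get 8 i) 0]) fun x hx => by
      rw [List.mem_singleton.1 hx]; exact (hLet_getD _ hj5).1) hg, by rw [img_mul, eg, e]⟩

end SylData

open SylData

/-- The first generator of the subgroup of order 25. -/
noncomputable def gA : Equiv.Perm V := wp wa

/-- The second generator of the subgroup of order 25. -/
noncomputable def gB : Equiv.Perm V := wp wb

/-- The element of order 13. -/
noncomputable def gY : Equiv.Perm V := wp wy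

/-- The elements used, their letters and what they fix. -/
structure Misc : Prop where
  la : ∀ x ∈ wa, x < 32
  lb : ∀ x ∈ wb, x < 32
  ly : ∀ x ∈ wy, x < 32
  ln : ∀ x ∈ wn, x < 32
  ls : ∀ t ∈ stabGens, ∀ x ∈ t.1, x < 32
  fa : wv wa 0 = 0 ∧ wv wa 1 = 1
  fb : wv wb 0 = 0 ∧ wv wb 1 = 1
  fy : wv wy 0 = 0 ∧ wv wy 1 = 1
  fn : wv wn 0 = 0
  fs : ∀ t ∈ stabGens, wv t.1 0 = 0 ∧ stepB t.1 SylData.root SylData.root = true
  root_lt : SylData.root < 14976

theorem misc : Misc := by
  have h := misc_ok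
  simp only [miscB, Bool.and_eq_true, List.all_eq_true] at h
  obtain ⟨⟨⟨⟨⟨⟨⟨⟨⟨⟨⟨⟨⟨⟨⟨⟨⟨⟨⟨hl, a0⟩, b0⟩, y0⟩, n0'⟩, a1⟩, b1⟩, y1⟩, hs⟩, hr⟩, -⟩, -⟩, -⟩, -⟩, -⟩, -⟩, -⟩, -⟩,
    -⟩, -⟩ := h
  have hl' : ∀ x, x ∈ wa ++ wb ++ wy ++ wn ++ (stabGens.map Prod.fst).flatten → x < 32 := fun x hx =>
    of_decide_eq_true (hl x hx)
  simp only [List.mem_append] at hl'
  have e := fun {a b : ℕ} (h : Nat.beq a b = true) => Nat.eq_of_beq_eq_true h
  refine ⟨fun x hx => hl' x (.inl (.inl (.inl (.inl hx)))), fun x hx => hl' x (.inl (.inl (.inl (.inr hx)))),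
    fun x hx => hl' x (.inl (.inl (.inr hx))), fun x hx => hl' x (.inl (.inr hx)), fun t ht x hx =>
      hl' x (.inr (List.mem_flatten.2 ⟨t.1, List.mem_map.2 ⟨t, ht, rfl⟩, hx⟩)), ⟨e a0, e a1⟩, ⟨e b0, e b1⟩,
    ⟨e y0, e y1⟩, e n0', fun t ht => ?_, Nat.le_of_ble_eq_true hr⟩
  have ht' := hs t ht
  exact ⟨e ht'.1.1.1.1.1, ht'.1.1.1.1.2⟩

theorem gA_mem : gA ∈ X := wp_mem_X_of_fix misc.la misc.fa.1
theorem gB_mem : gB ∈ X := wp_mem_X_of_fix misc.lb misc.fb.1
theorem gY_mem : gY ∈ X := wp_mem_X_of_fix misc.ly misc.fy.1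

theorem rels (c : ℕ) (hc : c < 4060) : relsB c = true := allFrom_spec rels_ok c (Nat.zero_le _) (by omega)

theorem pow_one_of_check {w : List ℕ} (hw : ∀ x ∈ w, x < 32) {n : ℕ} (h : ∀ c < 4060, pwv w n c = c) :
    wp w ^ n = 1 :=
  Equiv.ext fun c => Fin.ext (by rw [pow_apply_wpow hw, h c.1 c.2, Equiv.Perm.one_apply])

theorem gY_pow : gY ^ 13 = 1 := pow_one_of_check misc.ly fun c hc => by
  have h := rels c hc
  simp only [relsB, Bool.and_eq_true] at h
  exact Nat.eq_of_beq_eq_true h.1.1.1.1.1.1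

theorem gA_pow : gA ^ 5 = 1 := pow_one_of_check misc.la fun c hc => by
  have h := rels c hc
  simp only [relsB, Bool.and_eq_true] at h
  exact Nat.eq_of_beq_eq_true h.1.1.1.1.1.2

theorem gB_pow : gB ^ 5 = 1 := pow_one_of_check misc.lb fun c hc => by
  have h := rels c hc
  simp only [relsB, Bool.and_eq_true] at h
  exact Nat.eq_of_beq_eq_true h.1.1.1.1.2

theorem gAB_comm : Commute gA gB := by
  show wp wa * wp wb = wp wb * wp wa
  rw [← wp_append, ← wp_append]
  refine wp_eq_of_check (fun x hx => ?_) (fun x hx => ?_) fun c hc => ?_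
  · rcases List.mem_append.1 hx with h | h <;> [exact misc.la x h; exact misc.lb x h]
  · rcases List.mem_append.1 hx with h | h <;> [exact misc.lb x h; exact misc.la x h]
  · have h := rels c hc
    simp only [relsB, Bool.and_eq_true] at h
    exact Nat.eq_of_beq_eq_true h.1.1.1.2

theorem five_lt {i j : ℕ} : ∀ x ∈ five i j, x < 32 := by
  intro x hx
  simp only [five, List.mem_append, List.mem_flatten] at hx
  rcases hx with ⟨l, hl, hx⟩ | ⟨l, hl, hx⟩
  · exact misc.la x ((List.eq_of_mem_replicate hl) ▸ hx)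
  · exact misc.lb x ((List.eq_of_mem_replicate hl) ▸ hx)

theorem wp_five (i j : ℕ) : wp (five i j) = gA ^ i * gB ^ j := by
  rw [five, wp_append, gA, gB, wp_pow, wp_pow]

theorem gY_moves : gY (pt 2) ≠ pt 2 := by
  intro e
  have h := misc_ok
  simp only [miscB, Bool.and_eq_true, Bool.not_eq_true'] at h
  have h2 := h.2
  rw [gY, (wp_pt misc.ly (by norm_num : 2 < 4060)).1] at e
  have hlt := (wp_pt misc.ly (by norm_num : 2 < 4060)).2
  rw [pt_inj hlt (by norm_num) e, Nat.beq_refl] at h2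
  cases h2

theorem orderOf_gY : orderOf gY = 13 := by
  haveI : Fact (Nat.Prime 13) := ⟨by norm_num⟩
  exact orderOf_eq_prime gY_pow fun e => gY_moves (by rw [e]; rfl)

/-- The subgroup of order 25. -/
noncomputable def SylFive : Subgroup (Equiv.Perm V) := Subgroup.closure {gA, gB}

theorem mem_SylFive {g : Equiv.Perm V} (hg : g ∈ SylFive) : ∃ i < 5, ∃ j < 5, g = gA ^ i * gB ^ j := by
  induction hg using Subgroup.closure_induction with
  | mem x hx =>
    rcases hx with rfl | rfl
    · exact ⟨1, by norm_num, 0, by norm_num, by simp⟩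
    · exact ⟨0, by norm_num, 1, by norm_num, by simp⟩
  | one => exact ⟨0, by norm_num, 0, by norm_num, by simp⟩
  | mul x y _ _ ihx ihy =>
    obtain ⟨i, -, j, -, rfl⟩ := ihx
    obtain ⟨k, -, l, -, rfl⟩ := ihy
    refine ⟨(i + k) % 5, Nat.mod_lt _ (by norm_num), (j + l) % 5, Nat.mod_lt _ (by norm_num), ?_⟩
    rw [← pow_eq_pow_mod (i + k) gA_pow, ← pow_eq_pow_mod (j + l) gB_pow, pow_add, pow_add]
    exact Commute.mul_mul_mul_comm ((gAB_comm.symm.pow_pow j k)) _ _
  | inv x _ ih =>
    obtain ⟨i, hi, j, hj, rfl⟩ := ih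
    refine ⟨(5 - i) % 5, Nat.mod_lt _ (by norm_num), (5 - j) % 5, Nat.mod_lt _ (by norm_num), ?_⟩
    rw [← pow_eq_pow_mod (5 - i) gA_pow, ← pow_eq_pow_mod (5 - j) gB_pow]
    symm
    rw [eq_inv_iff_mul_eq_one, Commute.mul_mul_mul_comm ((gAB_comm.symm.pow_pow (5 - j) i)), ← pow_add, ← pow_add,
      Nat.sub_add_cancel hi.le, Nat.sub_add_cancel hj.le, gA_pow, gB_pow, one_mul]

theorem SylFive_le : SylFive ≤ X := (Subgroup.closure_le _).2 (by
  rintro x (rfl | rfl)
  exacts [gA_mem, gB_mem])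

theorem gA_SylFive : gA ∈ SylFive := Subgroup.subset_closure (Or.inl rfl)

theorem gB_SylFive : gB ∈ SylFive := Subgroup.subset_closure (Or.inr rfl)

theorem card_SylFive : Nat.card SylFive = 25 := by
  refine le_antisymm ?_ ?_
  · let f : Fin 5 × Fin 5 → SylFive := fun p => ⟨gA ^ p.1.1 * gB ^ p.2.1,
      mul_mem (pow_mem gA_SylFive _) (pow_mem gB_SylFive _)⟩
    have hs : Function.Surjective f := fun g => by
      obtain ⟨i, hi, j, hj, e⟩ := mem_SylFive g.2
      exact ⟨(⟨i, hi⟩, ⟨j, hj⟩), Subtype.ext e.symm⟩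
    simpa using Nat.card_le_card_of_surjective f hs
  · have h := misc_ok
    simp only [miscB, Bool.and_eq_true] at h
    have hnd := nodupB_spec h.1.1.1.2
    have h1 : pairFive.1 < 4060 := Nat.le_of_ble_eq_true h.1.1.2
    have h2 : pairFive.2 < 4060 := Nat.le_of_ble_eq_true h.1.2
    let f : Fin 25 → SylFive := fun t => ⟨gA ^ (t.1 / 5) * gB ^ (t.1 % 5),
      mul_mem (pow_mem gA_SylFive _) (pow_mem gB_SylFive _)⟩
    have hf : Function.Injective f := fun s t hst => by
      have e : wp (five (s.1 / 5) (s.1 % 5)) = wp (five (t.1 / 5) (t.1 % 5)) := by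
        rw [wp_five, wp_five]; exact congrArg Subtype.val hst
      have ex : ∀ p, p < 4060 → wv (five (s.1 / 5) (s.1 % 5)) p = wv (five (t.1 / 5) (t.1 % 5)) p := by
        intro p hp
        have a := wp_pt five_lt hp (w := five (s.1 / 5) (s.1 % 5))
        have b := wp_pt five_lt hp (w := five (t.1 / 5) (t.1 % 5))
        rw [e] at a
        exact pt_inj a.2 b.2 (a.1.symm.trans b.1)
      refine Fin.ext ((List.Nodup.getElem_inj_iff hnd (hi := by simpa using s.2) (hj := by simpa using t.2)).1 ?_)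
      simp only [List.getElem_map, List.getElem_range, ex _ h1, ex _ h2]
    simpa using Nat.card_le_card_of_injective f hf

/-- The stabiliser of the root set. -/
noncomputable def setStab : Subgroup (Equiv.Perm V) where
  carrier := {g | g ∈ X ∧ img g (quad SylData.root) = quad SylData.root}
  one_mem' := ⟨one_mem _, img_one _⟩
  mul_mem' := fun ha hb => ⟨mul_mem ha.1 hb.1, by rw [img_mul, hb.2, ha.2]⟩
  inv_mem' := fun ha => ⟨inv_mem ha.1, img_inv ha.2⟩

theorem card_setStab : Nat.card setStab = 2400 := by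
  let A : MulAction X (Finset V) :=
    { smul := fun g s => img g.1 s
      one_smul := img_one
      mul_smul := fun g h s => img_mul g.1 h.1 s }
  letI := A
  have ho : MulAction.orbit X (quad SylData.root) = quad '' Set.Iio 14976 := by
    rw [← orbit_root]
    exact Set.ext fun s => ⟨fun ⟨g, e⟩ => ⟨g.1, g.2, e⟩, fun ⟨g, hg, e⟩ => ⟨⟨g, hg⟩, e⟩⟩
  have hs : MulAction.stabilizer X (quad SylData.root) = setStab.subgroupOf X :=
    Subgroup.ext fun g => ⟨fun e => ⟨g.2, e⟩, fun e => e.2⟩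
  have h : Nat.card (MulAction.orbit X (quad SylData.root)) *
      Nat.card (MulAction.stabilizer X (quad SylData.root)) = Nat.card X := by
    rw [← Nat.card_prod]
    exact Nat.card_congr (MulAction.orbitProdStabilizerEquivGroup X _)
  rw [hs, Nat.card_congr (Subgroup.subgroupOfEquivOfLe (fun g hg => hg.1 : setStab ≤ X)).toEquiv, card_X, ho,
    Nat.card_coe_set_eq, Set.InjOn.ncard_image (fun i hi k hk => quad_inj (Set.mem_Iio.1 hi) (Set.mem_Iio.1 hk)),
    show (Set.Iio 14976 : Set ℕ).ncard = 14976 by rw [← Finset.coe_Iio, Set.ncard_coe_finset, Nat.card_Iio]] at h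
  omega

/-- The stabiliser of the root set normalises the subgroup of order 25. -/
theorem conj_SylFive {n : Equiv.Perm V} (hn : n ∈ setStab) : ∀ p ∈ SylFive, n * p * n⁻¹ ∈ SylFive := by
  set K := Subgroup.closure (wp '' {w | w ∈ stabGens.map Prod.fst}) with hK
  have hKle : K ≤ setStab := by
    rw [hK, Subgroup.closure_le]
    rintro _ ⟨w, hw, rfl⟩
    obtain ⟨t, ht, rfl⟩ := List.mem_map.1 hw
    exact ⟨wp_mem_X_of_fix (misc.ls t ht) (misc.fs t ht).1, (step_spec (misc.ls t ht) misc.root_lt (misc.fs t ht).2).2⟩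
  have hcard : 1201 ≤ Nat.card K := by
    have h := misc_ok
    simp only [miscB, Bool.and_eq_true] at h
    exact sTree.card_le h.1.1.1.1.1.1.1.1.2 sTree_ok (Nat.le_of_ble_eq_true h.1.1.1.1.1.1.2) K
      fun w hw => Subgroup.subset_closure ⟨w, hw, rfl⟩
  have hKeq : K = setStab := Subgroup.eq_of_le_of_card_ge hKle (by
    obtain ⟨m, hm⟩ := Subgroup.card_dvd_of_le hKle
    rw [card_setStab] at hm ⊢
    rcases Nat.lt_or_ge m 2 with h | h
    · interval_cases m <;> omega
    · have := Nat.mul_le_mul hcard h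
      omega)
  rw [← hKeq] at hn
  induction hn using Subgroup.closure_induction with
  | mem x hx =>
    obtain ⟨w, hw, rfl⟩ := hx
    obtain ⟨t, ht, rfl⟩ := List.mem_map.1 hw
    have key : wp t.1 * gA = gA ^ t.2.1.1 * gB ^ t.2.1.2 * wp t.1 ∧
        wp t.1 * gB = gA ^ t.2.2.1 * gB ^ t.2.2.2 * wp t.1 := by
      rw [← wp_five, ← wp_five, gA, gB, ← wp_append, ← wp_append, ← wp_append, ← wp_append]
      refine ⟨?_, ?_⟩ <;>
      · refine wp_eq_of_check (fun x hx => ?_) (fun x hx => ?_) fun c hc => ?_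
        · rcases List.mem_append.1 hx with h | h
          · exact misc.ls t ht x h
          · first | exact misc.la x h | exact misc.lb x h
        · rcases List.mem_append.1 hx with h | h
          · exact five_lt x h
          · exact misc.ls t ht x h
        · have h := rels c hc
          simp only [relsB, Bool.and_eq_true, List.all_eq_true] at h
          first
            | exact Nat.eq_of_beq_eq_true (h.1.2 t ht).1
            | exact Nat.eq_of_beq_eq_true (h.1.2 t ht).2
    intro p hp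
    obtain ⟨i, -, j, -, rfl⟩ := mem_SylFive hp
    rw [show wp t.1 * (gA ^ i * gB ^ j) * (wp t.1)⁻¹ =
      (wp t.1 * gA * (wp t.1)⁻¹) ^ i * (wp t.1 * gB * (wp t.1)⁻¹) ^ j by rw [conj_pow, conj_pow]; group]
    have hA : gA ∈ SylFive := Subgroup.subset_closure (Or.inl rfl)
    have hB : gB ∈ SylFive := Subgroup.subset_closure (Or.inr rfl)
    refine mul_mem (pow_mem ?_ _) (pow_mem ?_ _)
    · rw [key.1, mul_inv_cancel_right]; exact mul_mem (pow_mem hA _) (pow_mem hB _)
    · rw [key.2, mul_inv_cancel_right]; exact mul_mem (pow_mem hA _) (pow_mem hB _)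
  | one => intro p hp; simpa using hp
  | mul x y _ _ ihx ihy =>
    intro p hp
    rw [show x * y * p * (x * y)⁻¹ = x * (y * p * y⁻¹) * x⁻¹ by group]
    exact ihx _ (ihy p hp)
  | inv x _ ih =>
    intro p hp
    let φ : SylFive → SylFive := fun q => ⟨x * q.1 * x⁻¹, ih q.1 q.2⟩
    have hφ : Function.Injective φ := fun a b h =>
      Subtype.ext ((mul_right_inj x).1 ((mul_left_inj x⁻¹).1 (congrArg Subtype.val h)))
    obtain ⟨q, hq⟩ := (Finite.injective_iff_surjective.1 hφ) ⟨p, hp⟩
    have e : x * q.1 * x⁻¹ = p := congrArg Subtype.val hq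
    rw [← e, inv_inv, show x⁻¹ * (x * q.1 * x⁻¹) * x = q.1 by group]
    exact q.2

/-- A subgroup contains the conjugates of the subgroup of order 25 with index `i`. -/
def Sits (L : Subgroup (Equiv.Perm V)) (i : ℕ) : Prop :=
  ∀ g ∈ X, img g (quad SylData.root) = quad i → g * gA * g⁻¹ ∈ L ∧ g * gB * g⁻¹ ∈ L

/-- The property proved of every set. -/
def Good (i : ℕ) : Prop :=
  ∀ L : Subgroup (Equiv.Perm V), L ≤ X → Nat.card L = 15600 → gY ∈ L → Sits L i → ∃ m, InM m ∧ ∀ g ∈ L, g m = m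

theorem nw_mem (j : ℕ) : wp (nw j) ∈ X ∧ ∀ x ∈ nw j, x < 32 := by
  unfold nw
  cases Nat.beq j 0
  · exact ⟨wp_mem_X_of_fix misc.ln misc.fn, misc.ln⟩
  · exact ⟨gY_mem, misc.ly⟩

theorem conj_gY (j : ℕ) : ∃ k, k < 13 ∧ k ≠ 0 ∧ wp (nw j) * gY * (wp (nw j))⁻¹ = gY ^ k := by
  unfold nw
  cases Nat.beq j 0
  · refine ⟨kn, by decide, by decide, ?_⟩
    rw [mul_inv_eq_iff_eq_mul, gY, wp_pow, ← wp_append, ← wp_append]
    refine wp_eq_of_check (fun x hx => ?_) (fun x hx => ?_) fun c hc => ?_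
    · rcases List.mem_append.1 hx with h | h <;> [exact misc.ln x h; exact misc.ly x h]
    · rcases List.mem_append.1 hx with h | h
      · obtain ⟨l, hl, h⟩ := List.mem_flatten.1 h
        exact misc.ly x ((List.eq_of_mem_replicate hl) ▸ h)
      · exact misc.ln x h
    · have h := rels c hc
      simp only [relsB, Bool.and_eq_true] at h
      exact Nat.eq_of_beq_eq_true h.1.1.2
  · exact ⟨1, by norm_num, one_ne_zero, by simp [gY]⟩

theorem good_step {i : ℕ} (hi : i < 14976) {j : ℕ} (hj : j < 2) (h : Good (nm j i)) : Good i := by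
  intro L hLX hL hy hs
  obtain ⟨hn, hnl⟩ := nw_mem j
  set n := wp (nw j)
  obtain ⟨-, himg⟩ := step_spec hnl hi ((rowOK hi).nnext j hj)
  let L' : Subgroup (Equiv.Perm V) := L.map ((MulAut.conj n : MulAut (Equiv.Perm V)) : Equiv.Perm V →* Equiv.Perm V)
  have hmem : ∀ g ∈ L, n * g * n⁻¹ ∈ L' := fun g hg => ⟨g, hg, rfl⟩
  have hL'X : L' ≤ X := by
    rintro _ ⟨g, hg, rfl⟩
    exact mul_mem (mul_mem hn (hLX hg)) (inv_mem hn)
  have hy' : gY ∈ L' := by
    obtain ⟨k, hk, hk0, e⟩ := conj_gY j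
    have h1 : gY ^ k ∈ L' := e ▸ hmem _ hy
    have hco : Nat.Coprime k (orderOf gY) := by
      rw [orderOf_gY]
      exact ((Nat.Prime.coprime_iff_not_dvd (by norm_num)).2 fun hd => by
        have := Nat.le_of_dvd (Nat.pos_of_ne_zero hk0) hd; omega).symm
    obtain ⟨m, hm⟩ := exists_pow_eq_self_of_coprime hco
    rw [← hm]
    exact pow_mem h1 m
  obtain ⟨m, hm, hfix⟩ := h L' hL'X (by
      rw [Subgroup.card_map_of_injective (MulAut.conj n).injective, hL]) hy' fun g hg e => by
    have e' : img (n⁻¹ * g) (quad SylData.root) = quad i := by rw [img_mul, e]; exact img_inv himg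
    obtain ⟨a, b⟩ := hs (n⁻¹ * g) (mul_mem (inv_mem hn) hg) e'
    constructor
    · rw [show g * gA * g⁻¹ = n * (n⁻¹ * g * gA * (n⁻¹ * g)⁻¹) * n⁻¹ by group]; exact hmem _ a
    · rw [show g * gB * g⁻¹ = n * (n⁻¹ * g * gB * (n⁻¹ * g)⁻¹) * n⁻¹ by group]; exact hmem _ b
  refine ⟨n⁻¹ m, (inM_map (inv_mem hn) m).2 hm, fun g hg => ?_⟩
  have := hfix _ (hmem g hg)
  simp only [Equiv.Perm.mul_apply] at this
  exact (Equiv.Perm.eq_inv_iff_eq.2 this)

/-- A subgroup of order 15600 with an element of order divisible by 16 normalises its subgroups of order 13. -/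
theorem conj_pow_of_sixteen {L : Type*} [Group L] [Finite L] (hL : Nat.card L = 15600) (u : L)
    (hu : 16 ∣ orderOf u) (y : L) (hy : orderOf y = 13) (l : L) : ∃ k : ℕ, l * y * l⁻¹ = y ^ k := by
  haveI : Fact (Nat.Prime 2) := ⟨Nat.prime_two⟩
  haveI : Fact (Nat.Prime 13) := ⟨by norm_num⟩
  set v := u ^ (orderOf u / 16)
  have hv : orderOf v = 16 := orderOf_pow_orderOf_div (orderOf_pos u).ne' hu
  obtain ⟨P, hP⟩ := (IsPGroup.of_card (n := 4) (by rw [Nat.card_zpowers, hv]; norm_num) :
    IsPGroup 2 (Subgroup.zpowers v)).exists_le_sylow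
  have hfac : (15600 : ℕ).factorization 2 = 4 := by
    rw [show (15600 : ℕ) = 2 ^ 4 * 975 by norm_num, Nat.factorization_mul (by norm_num) (by norm_num),
      Finsupp.add_apply, Nat.Prime.factorization_pow Nat.prime_two, Finsupp.single_eq_same,
      Nat.factorization_eq_zero_of_not_dvd (by norm_num), add_zero]
  have hPc : Nat.card P = 16 := by
    rw [P.card_eq_multiplicity, hL, hfac]; norm_num
  have hPeq : Subgroup.zpowers v = (P : Subgroup L) :=
    Subgroup.eq_of_le_of_card_ge hP (by rw [Nat.card_zpowers, hv]; exact hPc.le)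
  have hcyc : IsCyclic P := by
    show IsCyclic ↥(P : Subgroup L)
    rw [← hPeq]; infer_instance
  have hmin : (Nat.card L).minFac = 2 := by rw [hL]; exact (Nat.minFac_eq_two_iff _).2 (by norm_num)
  have hcomp := IsCyclic.isComplement' hmin hcyc
  set φ := MonoidHom.transferSylow P (hcyc.normalizer_le_centralizer hmin)
  have hK : Nat.card φ.ker = 975 := by
    have := hcomp.card_mul
    rw [hPc, hL] at this
    omega
  have hy13 : ∀ z : L, orderOf z = 13 → z ∈ φ.ker := by
    intro z hz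
    rw [MonoidHom.mem_ker, ← orderOf_eq_one_iff]
    have h1 : orderOf (φ z) ∣ 13 := hz ▸ orderOf_map_dvd φ z
    have h2 : orderOf (φ z) ∣ 16 := hPc ▸ orderOf_dvd_natCard (φ z)
    exact Nat.dvd_one.1 (by simpa using Nat.dvd_gcd h1 h2)
  have hlyl : orderOf (l * y * l⁻¹) = 13 := by
    rw [← hy]; exact (MulAut.conj l).orderOf_eq y
  let Y : φ.ker := ⟨y, hy13 y hy⟩
  let Z : φ.ker := ⟨l * y * l⁻¹, hy13 _ hlyl⟩
  obtain ⟨Q, hQ⟩ := (IsPGroup.of_card (n := 1) (by rw [Nat.card_zpowers, ← Subgroup.orderOf_coe, hy]; norm_num) :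
    IsPGroup 13 (Subgroup.zpowers Y)).exists_le_sylow
  have hQc : Nat.card Q = 13 := by
    rw [Q.card_eq_multiplicity, hK, show (975 : ℕ) = 13 ^ 1 * 75 by norm_num,
      Nat.factorization_mul (by norm_num) (by norm_num), Finsupp.add_apply,
      Nat.Prime.factorization_pow (by norm_num : Nat.Prime 13), Finsupp.single_eq_same,
      Nat.factorization_eq_zero_of_not_dvd (by norm_num), add_zero]
    norm_num
  have hone : Nat.card (Sylow 13 φ.ker) = 1 := by
    have h1 : Nat.card (Sylow 13 φ.ker) ∣ 75 := by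
      have h := Q.card_dvd_index
      have hi := (Q : Subgroup φ.ker).card_mul_index
      rw [hQc, hK] at hi
      rwa [show (Q : Subgroup φ.ker).index = 75 by omega] at h
    have h2 := card_sylow_modEq_one 13 φ.ker
    have h3 : Nat.card (Sylow 13 φ.ker) ≤ 75 := Nat.le_of_dvd (by norm_num) h1
    revert h1 h2 h3
    generalize Nat.card (Sylow 13 φ.ker) = k
    intro h1 h2 h3
    unfold Nat.ModEq at h2
    interval_cases k <;> omega
  have hYQ : Subgroup.zpowers Y = (Q : Subgroup φ.ker) :=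
    Subgroup.eq_of_le_of_card_ge hQ (by rw [Nat.card_zpowers, ← Subgroup.orderOf_coe, hy]; exact hQc.le)
  obtain ⟨R, hR⟩ := (IsPGroup.of_card (n := 1) (by rw [Nat.card_zpowers, ← Subgroup.orderOf_coe, hlyl]; norm_num) :
    IsPGroup 13 (Subgroup.zpowers Z)).exists_le_sylow
  haveI := (Nat.card_eq_one_iff_unique.1 hone).1
  have hZ : Z ∈ Subgroup.zpowers Y := by
    rw [hYQ, Subsingleton.elim Q R]
    exact hR (Subgroup.mem_zpowers Z)
  obtain ⟨k, hk⟩ := Submonoid.mem_powers_iff _ _ |>.1 (mem_powers_iff_mem_zpowers.2 hZ)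
  exact ⟨k, (congrArg Subtype.val hk).symm⟩

theorem good_rep {r : ℕ} (hr : r < cases.length) : Good (repOf r) := by
  have h := allFrom_spec cases_ok r (Nat.zero_le _) (by omega)
  intro L hLX hL hy hs
  obtain ⟨s, W, u, p, k, z, hc⟩ : ∃ s W u p k z, cases.getD r (0, [], [], 0, 0, 0) = (s, W, u, p, k, z) :=
    ⟨_, _, _, _, _, _, rfl⟩
  simp only [repOf, hc] at hs
  simp only [caseB, repOf, hc, Bool.and_eq_true, Bool.or_eq_true, Bool.not_eq_true'] at h
  obtain ⟨⟨hW, hstep⟩, hcase⟩ := h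
  have hW4 : ∀ x ∈ W, x < 4 := fun x hx => Nat.le_of_ble_eq_true (allList_spec hW x hx)
  have hW32 : ∀ x ∈ W, x < 32 := fun x hx => by have := hW4 x hx; omega
  have hWX : wp W ∈ X := wp_mem_X fun x hx => by
    have := hW4 x hx
    interval_cases x <;> decide
  obtain ⟨-, himg⟩ := step_spec hW32 misc.root_lt hstep
  obtain ⟨hA, hB⟩ := hs (wp W) hWX himg
  rcases hcase with ⟨-, hlen⟩ | hcase
  · obtain rfl : W = [] := List.length_eq_zero_iff.1 (Nat.eq_of_beq_eq_true hlen)
    rw [wp_nil] at hA hB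
    simp only [one_mul, inv_one, mul_one] at hA hB
    set D := Subgroup.closure (wp '' {w | w ∈ [wa, wb, wy]}) with hD
    have hDL : D ≤ L := by
      rw [hD, Subgroup.closure_le]
      rintro _ ⟨w, hw, rfl⟩
      simp only [Set.mem_setOf_eq, List.mem_cons, List.not_mem_nil, or_false] at hw
      rcases hw with rfl | rfl | rfl
      exacts [hA, hB, hy]
    have hcard : 5201 ≤ Nat.card D := by
      have h := misc_ok
      simp only [miscB, Bool.and_eq_true] at h
      exact dTree.card_le h.1.1.1.1.1.1.1.1.1.2 dTree_ok (Nat.le_of_ble_eq_true h.1.1.1.1.1.1.1.2) D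
        fun w hw => Subgroup.subset_closure ⟨w, hw, rfl⟩
    have hidx : (D.subgroupOf L).index ≤ 2 := by
      have h := (D.subgroupOf L).index_mul_card
      rw [Nat.card_congr (Subgroup.subgroupOfEquivOfLe hDL).toEquiv, hL] at h
      by_contra hlt
      have := Nat.mul_le_mul (Nat.succ_le_of_lt (not_le.1 hlt)) hcard
      omega
    have hn : (D.subgroupOf L).Normal := by
      rcases Nat.lt_or_ge (D.subgroupOf L).index 2 with h | h
      · have h1 : (D.subgroupOf L).index = 1 := by
          have := (D.subgroupOf L).index_ne_zero_of_finite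
          omega
        rw [Subgroup.index_eq_one.1 h1]; infer_instance
      · exact Subgroup.normal_of_index_eq_two (le_antisymm hidx h)
    have hfixm : ∀ d ∈ D, d m0 = m0 := by
      intro d hd
      induction hd using Subgroup.closure_induction with
      | mem x hx =>
        obtain ⟨w, hw, rfl⟩ := hx
        simp only [Set.mem_setOf_eq, List.mem_cons, List.not_mem_nil, or_false] at hw
        rcases hw with rfl | rfl | rfl
        · rw [m0, (wp_pt misc.la (by norm_num)).1, misc.fa.2]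
        · rw [m0, (wp_pt misc.lb (by norm_num)).1, misc.fb.2]
        · rw [m0, (wp_pt misc.ly (by norm_num)).1, misc.fy.2]
      | one => rfl
      | mul x y _ _ ihx ihy => rw [Equiv.Perm.mul_apply, ihy, ihx]
      | inv x _ ih => exact Equiv.Perm.inv_eq_iff_eq.2 ih.symm
    refine ⟨m0, (inM_iff m0).2 ⟨1, one_mem _, rfl⟩, fun g hg => ?_⟩
    have hfix : ∀ w ∈ [wa, wb, wy], wp w (g m0) = g m0 := by
      intro w hw
      have hwD : wp w ∈ D := Subgroup.subset_closure ⟨w, hw, rfl⟩
      have h1 := hn.conj_mem ⟨wp w, hDL hwD⟩ hwD ⟨g⁻¹, inv_mem hg⟩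
      have h2 : g⁻¹ * wp w * g⁻¹⁻¹ ∈ D := h1
      have h3 := hfixm _ h2
      rw [inv_inv, Equiv.Perm.mul_apply, Equiv.Perm.mul_apply] at h3
      exact Equiv.Perm.inv_eq_iff_eq.1 h3
    have hh := rels (g m0).1 (g m0).2
    simp only [relsB, Bool.and_eq_true, Bool.or_eq_true, Bool.not_eq_true'] at hh
    have hv : ∀ w ∈ [wa, wb, wy], (∀ x ∈ w, x < 32) → wv w (g m0).1 = (g m0).1 := fun w hw hl => by
      rw [← wp_apply hl, hfix w hw]
    rcases hh.2 with (((e | e) | e) | e) | e
    · exfalso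
      have e0 : g m0 = 0 := Fin.ext (Nat.eq_of_beq_eq_true e)
      have this : m0 = g⁻¹ 0 := Equiv.Perm.eq_inv_iff_eq.2 e0
      rw [X_fix (inv_mem (hLX hg))] at this
      exact absurd (pt_inj (by norm_num) (by norm_num) (this.trans (pt_self (0 : V)).symm) : (1 : ℕ) = 0) one_ne_zero
    · exact Fin.ext ((Nat.eq_of_beq_eq_true e).trans rfl)
    · rw [hv wa (by simp) misc.la] at e; simp at e
    · rw [hv wb (by simp) misc.lb] at e; simp at e
    · rw [hv wy (by simp) misc.ly] at e; simp at e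
  · obtain ⟨⟨⟨⟨⟨⟨⟨hu, hp⟩, h16⟩, h8⟩, hk⟩, hz⟩, hyz⟩, hmv⟩ := hcase
    exfalso
    have hwY : ∀ a, a < 3 → wp (subst W [a]) ∈ L ∧ ∀ x ∈ subst W [a], x < 32 := by
      intro a ha
      have hWr : ∀ x ∈ W.reverse, x < 32 := fun x hx => hW32 x (List.mem_reverse.1 hx)
      interval_cases a
      · refine ⟨?_, ?_⟩
        · show wp (W ++ wa ++ W.reverse ++ []) ∈ L
          rw [List.append_nil, wp_append, wp_append, wp_reverse hW4]; exact hA
        · show ∀ x ∈ W ++ wa ++ W.reverse ++ [], x < 32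
          simp only [List.append_nil, List.mem_append]
          rintro x ((h | h) | h) <;> [exact hW32 x h; exact misc.la x h; exact hWr x h]
      · refine ⟨?_, ?_⟩
        · show wp (W ++ wb ++ W.reverse ++ []) ∈ L
          rw [List.append_nil, wp_append, wp_append, wp_reverse hW4]; exact hB
        · show ∀ x ∈ W ++ wb ++ W.reverse ++ [], x < 32
          simp only [List.append_nil, List.mem_append]
          rintro x ((h | h) | h) <;> [exact hW32 x h; exact misc.lb x h; exact hWr x h]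
      · refine ⟨?_, ?_⟩
        · show wp (wy ++ []) ∈ L
          rw [List.append_nil]; exact hy
        · show ∀ x ∈ wy ++ [], x < 32
          rw [List.append_nil]; exact misc.ly
    have hsub : ∀ w : List ℕ, (∀ a ∈ w, a < 3) → wp (subst W w) ∈ L ∧ ∀ x ∈ subst W w, x < 32 := by
      intro w
      induction w with
      | nil => intro _; exact ⟨by show wp [] ∈ L; rw [wp_nil]; exact one_mem _, fun x hx => absurd hx (by simp [subst])⟩
      | cons a w ih =>
        intro hw
        obtain ⟨i1, i2⟩ := ih fun b hb => hw b (List.mem_cons_of_mem _ hb)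
        obtain ⟨a1, a2⟩ := hwY a (hw a List.mem_cons_self)
        have e : subst W (a :: w) = subst W [a] ++ subst W w := by
          show _ ++ subst W w = (_ ++ []) ++ subst W w
          rw [List.append_nil]
        refine ⟨by rw [e, wp_append]; exact mul_mem a1 i1, fun x hx => ?_⟩
        rw [e] at hx
        rcases List.mem_append.1 hx with h | h <;> [exact a2 x h; exact i2 x h]
    obtain ⟨hUL, hU32⟩ := hsub u fun a ha => Nat.le_of_ble_eq_true (allList_spec hu a ha)
    have hp' : p < 4060 := Nat.le_of_ble_eq_true hp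
    have hU16 : 16 ∣ orderOf (⟨wp (subst W u), hUL⟩ : L) := by
      rw [← Subgroup.orderOf_coe]
      show 16 ∣ orderOf (wp (subst W u))
      have e16 : (wp (subst W u) ^ 16) • pt p = pt p := by
        refine Fin.ext ?_
        rw [Equiv.Perm.smul_def, pow_apply_wpow hU32, pt_val hp']
        exact Nat.eq_of_beq_eq_true h16
      have e8 : (wp (subst W u) ^ 8) • pt p ≠ pt p := fun e => by
        have := congrArg Fin.val e
        rw [Equiv.Perm.smul_def, pow_apply_wpow hU32, pt_val hp'] at this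
        rw [this, Nat.beq_refl] at h8
        cases h8
      rw [MulAction.pow_smul_eq_iff_period_dvd] at e16
      rw [Ne, MulAction.pow_smul_eq_iff_period_dvd] at e8
      obtain ⟨t, ht, he⟩ := (Nat.dvd_prime_pow Nat.prime_two).1 (show _ ∣ 2 ^ 4 from e16)
      have ht4 : t = 4 := by
        by_contra hne
        exact e8 (he ▸ (Nat.pow_dvd_pow 2 (by omega : t ≤ 3)))
      have := MulAction.period_dvd_orderOf (wp (subst W u)) (pt p)
      rw [he, ht4] at this
      exact this
    obtain ⟨hgL, hg32⟩ := hwY k (by have : k < 2 := Nat.le_of_ble_eq_true hk; omega)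
    set g := wp (subst W [k])
    obtain ⟨e, he⟩ := conj_pow_of_sixteen hL ⟨wp (subst W u), hUL⟩ hU16 ⟨gY, hy⟩
      (by rw [← Subgroup.orderOf_coe]; exact orderOf_gY) ⟨g⁻¹, inv_mem hgL⟩
    have he' : g⁻¹ * gY * g = gY ^ e := by
      have := congrArg Subtype.val he
      simpa using this
    have hz' : z < 4060 := Nat.le_of_ble_eq_true hz
    have hyfix : ∀ t : ℕ, (gY ^ t) (pt z) = pt z := by
      intro t
      induction t with
      | zero => rfl
      | succ t ih =>
        rw [pow_succ, Equiv.Perm.mul_apply, gY, (wp_pt misc.ly hz').1, Nat.eq_of_beq_eq_true hyz]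
        exact ih
    have hgz : gY (g (pt z)) = g (pt z) := by
      have h1 : gY * g = g * gY ^ e := by rw [← he']; group
      rw [← Equiv.Perm.mul_apply, h1, Equiv.Perm.mul_apply, hyfix]
    have hlt : wv (subst W [k]) z < 4060 := (wp_pt hg32 hz').2
    rw [(wp_pt hg32 hz').1, gY, (wp_pt misc.ly hlt).1] at hgz
    have := pt_inj (wp_pt misc.ly hlt).2 hlt hgz
    have e2 : wv (wy ++ subst W [k]) z = wv wy (wv (subst W [k]) z) := by
      show ActR.act.wact _ _ = _
      induction wy with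
      | nil => rfl
      | cons a t ih => simp only [List.cons_append, Act.wact, wv] at *; simp [ih]
    rw [e2, this, Nat.beq_refl] at hmv
    cases hmv

theorem good (i : ℕ) (hi : i < 14976) : Good i := by
  induction' hd : ndepth.get 8 i using Nat.strong_induction_on with d ih generalizing i
  rcases (rowOK hi).down with ⟨r, hr, rfl⟩ | h
  · exact good_rep hr
  · have hj := (rowOK hi).hlet
    obtain ⟨hk, -⟩ := step_spec (nw_mem _).2 hi ((rowOK hi).nnext _ hj)
    exact good_step hi hj (ih _ (hd ▸ h) _ hk rfl)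

/-- **A subgroup of index 2304 fixes a point of the orbit of length 2304.** -/
theorem stab_of_index_M (L : Subgroup (Equiv.Perm V)) (hLX : L ≤ X) (hL : Nat.card L = 15600) :
    ∃ m, InM m ∧ ∀ g ∈ L, g m = m := by
  haveI : Fact (Nat.Prime 13) := ⟨by norm_num⟩
  haveI : Fact (Nat.Prime 5) := ⟨by norm_num⟩
  obtain ⟨x, hx, hxy⟩ := conj_le L hLX (p := 13) (k := 1) (Subgroup.zpowers gY)
    (Subgroup.zpowers_le.2 gY_mem) (by rw [Nat.card_zpowers, orderOf_gY]; norm_num) (by norm_num)
    (by rw [hL]; norm_num)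
  let L' : Subgroup (Equiv.Perm V) := L.map ((MulAut.conj x).symm : Equiv.Perm V →* Equiv.Perm V)
  have hmem : ∀ g, x * g * x⁻¹ ∈ L → g ∈ L' := fun g hg => ⟨x * g * x⁻¹, hg, by simp [mul_assoc]⟩
  have hL'X : L' ≤ X := by
    rintro _ ⟨g, hg, rfl⟩
    simpa using mul_mem (mul_mem (inv_mem hx) (hLX hg)) hx
  have hL'c : Nat.card L' = 15600 := by
    rw [Subgroup.card_map_of_injective (MulAut.conj x).symm.injective, hL]
  obtain ⟨y, hyX, hyP⟩ := conj_le L' hL'X (p := 5) (k := 2) SylFive SylFive_le (by rw [card_SylFive]; norm_num)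
    (by norm_num) (by rw [hL'c]; norm_num)
  obtain ⟨i, hi, he⟩ : img y (quad SylData.root) ∈ quad '' Set.Iio 14976 := by
    rw [← orbit_root]; exact ⟨y, hyX, rfl⟩
  have hsit : Sits L' i := by
    intro g hg e
    have hn : y⁻¹ * g ∈ setStab := ⟨mul_mem (inv_mem hyX) hg, by rw [img_mul, e]; exact img_inv he.symm⟩
    constructor
    · rw [show g * gA * g⁻¹ = y * (y⁻¹ * g * gA * (y⁻¹ * g)⁻¹) * y⁻¹ by group]
      exact hyP _ (conj_SylFive hn _ gA_SylFive)
    · rw [show g * gB * g⁻¹ = y * (y⁻¹ * g * gB * (y⁻¹ * g)⁻¹) * y⁻¹ by group]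
      exact hyP _ (conj_SylFive hn _ gB_SylFive)
  obtain ⟨m, hm, hfix⟩ := good i hi L' hL'X hL'c (hmem _ (hxy _ (Subgroup.mem_zpowers _))) hsit
  refine ⟨x m, (inM_map hx m).2 hm, fun g hg => ?_⟩
  have := hfix (x⁻¹ * g * x) (hmem _ (by simpa [mul_assoc] using hg))
  simp only [Equiv.Perm.mul_apply] at this
  exact Equiv.Perm.inv_eq_iff_eq.1 this

end CfsgLib.Spor.RuThree
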