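import Cfsg.Agent.Lib.Spor.RuThree.FlagCheck0
import Cfsg.Agent.Lib.Spor.RuThree.FlagCheck1

/-!
# Subgroups of index 1755 of the point stabiliser fix a point
-/

set_option autoImplicit false
set_option maxRecDepth 100000

namespace CfsgLib.Spor.RuThree

open CfsgLib.Spor.TC
open scoped Pointwise

namespace FlagData

theorem row (i : ℕ) (hi : i < 8775) : rowB i = true := by
  rcases Nat.lt_or_ge i 1500 with h | h
  · exact allFrom_spec rows0 i (Nat.zero_le _) (by omega)
  rcases Nat.lt_or_ge i 3000 with h' | h'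
  · exact allFrom_spec rows1 i h (by omega)
  rcases Nat.lt_or_ge i 4500 with h'' | h''
  · exact allFrom_spec rows2 i h' (by omega)
  rcases Nat.lt_or_ge i 6000 with h3 | h3
  · exact allFrom_spec rows3 i h'' (by omega)
  rcases Nat.lt_or_ge i 7500 with h4 | h4
  · exact allFrom_spec rows4 i h3 (by omega)
  · exact allFrom_spec rows5 i h4 (by omega)

attribute [local irreducible] code nx sx

theorem root_lt : root < 8775 := Nat.le_of_ble_eq_true spread_ok.2.2.2.2.1

theorem root_point : (flag root).1 = n0 := congrArg pt (Nat.eq_of_beq_eq_true spread_ok.2.2.2.2.2.1)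

/-- The data of one row. -/
structure RowOK (i : ℕ) : Prop where
  hx : fx.get 16 i < 4060
  hab : fa.get 16 i < fb.get 16 i
  hb : fb.get 16 i < 4060
  mono : i ≠ 0 → code (i - 1) < code i
  next : ∀ j < 5, stepB [hLet.getD j 0] i (nx j i) = true
  up : i ≠ root → par.get 16 i < 8775 ∧ depth.get 8 (par.get 16 i) < depth.get 8 i ∧ plet.get 8 i < 5 ∧
    nx (plet.get 8 i) (par.get 16 i) = i
  snext : ∀ j < 3, stepB (sWords.getD j []) i (sx j i) = true
  hcls : cls.get 8 i < 16
  hlet : slet.get 8 i < 3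
  down : i ≠ reps.getD (cls.get 8 i) 0 → sdepth.get 8 (sx (slet.get 8 i) i) < sdepth.get 8 i ∧
    cls.get 8 (sx (slet.get 8 i) i) = cls.get 8 i
  zero : cls.get 8 i = 0 → i = root
  two : cls.get 8 i = 2 → fx.get 16 i = 150

theorem rowOK {i : ℕ} (hi : i < 8775) : RowOK i := by
  have h := row i hi
  simp only [rowB, Bool.and_eq_true, Bool.or_eq_true, Bool.not_eq_true'] at h
  obtain ⟨⟨⟨⟨⟨⟨⟨⟨⟨⟨⟨⟨⟨⟨⟨⟨⟨hx, hab⟩, hb⟩, hmono⟩, s0⟩, s1⟩, s2⟩, s3⟩, s4⟩, hup⟩, t0⟩, t1⟩, t2⟩, hc⟩,
    hl⟩, hdown⟩, hz⟩, htwo⟩ := h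
  refine ⟨Nat.le_of_ble_eq_true hx, Nat.le_of_ble_eq_true hab, Nat.le_of_ble_eq_true hb, fun hne => ?_,
    fun j hj => ?_, fun hne => ?_, fun j hj => ?_, Nat.le_of_ble_eq_true hc, Nat.le_of_ble_eq_true hl,
    fun hne => ?_, fun he => ?_, fun he => ?_⟩
  · rcases hmono with e | e
    · exact absurd (Nat.eq_of_beq_eq_true e) hne
    · exact Nat.le_of_ble_eq_true e
  · interval_cases j
    exacts [s0, s1, s2, s3, s4]
  · rcases hup with e | ⟨⟨⟨e1, e2⟩, e3⟩, e4⟩
    · exact absurd (Nat.eq_of_beq_eq_true e) hne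
    · exact ⟨Nat.le_of_ble_eq_true e1, Nat.le_of_ble_eq_true e2, Nat.le_of_ble_eq_true e3, Nat.eq_of_beq_eq_true e4⟩
  · interval_cases j
    exacts [t0, t1, t2]
  · rcases hdown with e | ⟨e1, e2⟩
    · exact absurd (Nat.eq_of_beq_eq_true e) hne
    · exact ⟨Nat.le_of_ble_eq_true e1, Nat.eq_of_beq_eq_true e2⟩
  · rcases hz with e | e
    · rw [he] at e; simp at e
    · exact Nat.eq_of_beq_eq_true e
  · rcases htwo with e | e
    · rw [he] at e; simp at e
    · exact Nat.eq_of_beq_eq_true e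

theorem step_spec {w : List ℕ} (hw : ∀ x ∈ w, x < 32) {i k : ℕ} (hi : i < 8775) (h : stepB w i k = true) :
    k < 8775 ∧ fact (wp w) (flag i) = flag k := by
  simp only [stepB, Bool.and_eq_true, Bool.or_eq_true] at h
  obtain ⟨⟨hk, hx⟩, hab⟩ := h
  obtain ⟨rx, ra, rb⟩ : fx.get 16 i < 4060 ∧ fa.get 16 i < 4060 ∧ fb.get 16 i < 4060 :=
    ⟨(rowOK hi).hx, (rowOK hi).hab.trans (rowOK hi).hb, (rowOK hi).hb⟩
  refine ⟨Nat.le_of_ble_eq_true hk, Prod.ext ?_ ?_⟩
  · show wp w (pt (fx.get 16 i)) = pt (fx.get 16 k)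
    rw [(wp_pt hw rx).1, Nat.eq_of_beq_eq_true hx]
  · show wp w '' {pt (fa.get 16 i), pt (fb.get 16 i)} = {pt (fa.get 16 k), pt (fb.get 16 k)}
    rw [Set.image_pair, (wp_pt hw ra).1, (wp_pt hw rb).1]
    rcases hab with ⟨e1, e2⟩ | ⟨e1, e2⟩
    · rw [Nat.eq_of_beq_eq_true e1, Nat.eq_of_beq_eq_true e2]
    · rw [Nat.eq_of_beq_eq_true e1, Nat.eq_of_beq_eq_true e2, Set.pair_comm]

theorem code_strict {i k : ℕ} (hk : k < 8775) (h : i < k) : code i < code k := by
  induction k with
  | zero => exact absurd h (Nat.not_lt_zero _)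
  | succ k ih =>
    have := (rowOK hk).mono (Nat.succ_ne_zero _)
    rw [Nat.succ_sub_one] at this
    rcases Nat.lt_succ_iff_lt_or_eq.1 h with h' | rfl
    · exact (ih (Nat.lt_of_succ_lt hk) h').trans this
    · exact this

theorem flag_inj {i k : ℕ} (hi : i < 8775) (hk : k < 8775) (h : flag i = flag k) : i = k := by
  have ri := rowOK hi
  have rk := rowOK hk
  have h1 := pt_inj ri.hx rk.hx (congrArg Prod.fst h)
  have h2 : ({pt (fa.get 16 i), pt (fb.get 16 i)} : Set V) = {pt (fa.get 16 k), pt (fb.get 16 k)} :=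
    congrArg Prod.snd h
  have ai := ri.hab.trans ri.hb
  have ak := rk.hab.trans rk.hb
  have hc : code i = code k := by
    rcases (Set.pair_eq_pair_iff.1 h2) with ⟨e1, e2⟩ | ⟨e1, e2⟩
    · unfold code
      rw [h1, pt_inj ai ak e1, pt_inj ri.hb rk.hb e2]
    · have := pt_inj ai rk.hb e1
      have := pt_inj ri.hb ak e2
      have := ri.hab
      have := rk.hab
      omega
  rcases lt_trichotomy i k with hlt | heq | hlt
  · exact absurd hc (code_strict hk hlt).ne
  · exact heq
  · exact absurd hc (code_strict hi hlt).ne'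

theorem hLet_lt : ∀ j < 5, hLet.getD j 0 ∈ hLet := by decide

theorem hLet_small : ∀ x ∈ hLet, x < 32 := by decide

/-- The orbit of the root flag under the stabiliser. -/
theorem orbit_root : {f | ∃ g ∈ X, fact g (flag root) = f} = flag '' Set.Iio 8775 := by
  refine Set.Subset.antisymm ?_ ?_
  · rintro f ⟨g, hg, rfl⟩
    suffices ∀ i < 8775, ∃ k < 8775, fact g (flag i) = flag k by
      obtain ⟨k, hk, e⟩ := this root root_lt
      exact ⟨k, hk, e.symm⟩
    induction hg using Subgroup.closure_induction with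
    | mem x hx =>
      obtain ⟨l, hl, rfl⟩ := hx
      obtain ⟨j, hj, rfl⟩ : ∃ j < 5, hLet.getD j 0 = l :=
        (by decide : ∀ l ∈ hLet, ∃ j < 5, hLet.getD j 0 = l) l hl
      intro i hi
      obtain ⟨hk, e⟩ := step_spec (w := [hLet.getD j 0]) (fun x hx => by
        rw [List.mem_singleton.1 hx]; exact hLet_small _ hl) hi ((rowOK hi).next j hj)
      refine ⟨_, hk, ?_⟩
      rw [← e]; simp [wp, ev]
    | one => exact fun i hi => ⟨i, hi, fact_one _⟩
    | mul x y _ _ ihx ihy =>
      intro i hi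
      obtain ⟨k, hk, e⟩ := ihy i hi
      obtain ⟨k', hk', e'⟩ := ihx k hk
      exact ⟨k', hk', by rw [fact_mul, e, e']⟩
    | inv x _ ihx =>
      intro i hi
      choose t ht he using ihx
      let φ : Fin 8775 → Fin 8775 := fun a => ⟨t a.1 a.2, ht a.1 a.2⟩
      have hinj : Function.Injective φ := fun a b hab => Fin.ext (flag_inj a.2 b.2 (by
        have hv : flag (φ a).1 = flag (φ b).1 := by rw [hab]
        have := (he a.1 a.2).trans (hv.trans (he b.1 b.2).symm)
        simpa [← fact_mul, fact_one] using congrArg (fact x⁻¹) this))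
      obtain ⟨a, ha⟩ := (Finite.injective_iff_surjective.1 hinj) ⟨i, hi⟩
      refine ⟨a.1, a.2, fact_inv ?_⟩
      rw [he a.1 a.2]
      exact congrArg flag (congrArg Fin.val ha)
  · rintro f ⟨i, hi, rfl⟩
    induction' hd : depth.get 8 i using Nat.strong_induction_on with d ih generalizing i
    by_cases hr : i = root
    · subst hr; exact ⟨1, one_mem _, fact_one _⟩
    obtain ⟨hp, hlt, hj, he⟩ := (rowOK hi).up hr
    obtain ⟨g, hg, eg⟩ := ih _ (hd ▸ hlt) _ hp rfl
    obtain ⟨-, e⟩ := step_spec (w := [hLet.getD (plet.get 8 i) 0]) (fun x hx => by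
      rw [List.mem_singleton.1 hx]; exact hLet_small _ (hLet_lt _ hj)) hp ((rowOK hp).next _ hj)
    rw [he] at e
    exact ⟨_, mul_mem (wp_mem_X (w := [hLet.getD (plet.get 8 i) 0]) fun x hx => by
      rw [List.mem_singleton.1 hx]; exact hLet_lt _ hj) hg, by rw [fact_mul, eg, e]⟩

end FlagData

open FlagData

/-- The stabiliser of the root flag. -/
noncomputable def SylTwo : Subgroup (Equiv.Perm V) where
  carrier := {g | g ∈ X ∧ fact g (flag root) = flag root}
  one_mem' := ⟨one_mem _, fact_one _⟩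
  mul_mem' := fun ha hb => ⟨mul_mem ha.1 hb.1, by rw [fact_mul, hb.2, ha.2]⟩
  inv_mem' := fun ha => ⟨inv_mem ha.1, fact_inv ha.2⟩

theorem fact_orbit_card (L : Subgroup (Equiv.Perm V)) (f : Flag) (K : Subgroup (Equiv.Perm V)) (hK : K ≤ L)
    (hKf : ∀ g, g ∈ L → (fact g f = f ↔ g ∈ K)) :
    {f' | ∃ g ∈ L, fact g f = f'}.ncard * Nat.card K = Nat.card L := by
  let A : MulAction L Flag :=
    { smul := fun g f => fact g.1 f
      one_smul := fact_one
      mul_smul := fun g h f => fact_mul g.1 h.1 f }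
  letI := A
  have ho : {f' | ∃ g ∈ L, fact g f = f'} = MulAction.orbit L f :=
    Set.ext fun f' => ⟨fun ⟨g, hg, e⟩ => ⟨⟨g, hg⟩, e⟩, fun ⟨g, e⟩ => ⟨g.1, g.2, e⟩⟩
  have hs : MulAction.stabilizer L f = K.subgroupOf L := Subgroup.ext fun g => hKf g.1 g.2
  have h3 : Nat.card (K.subgroupOf L) = Nat.card K := Nat.card_congr (Subgroup.subgroupOfEquivOfLe hK).toEquiv
  have h4 : Nat.card (MulAction.orbit L f) * Nat.card (MulAction.stabilizer L f) = Nat.card L := by
    rw [← Nat.card_prod]
    exact Nat.card_congr (MulAction.orbitProdStabilizerEquivGroup L f)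
  rw [ho, ← Nat.card_coe_set_eq, ← h3, ← hs]
  exact h4

theorem card_SylTwo : Nat.card SylTwo = 4096 := by
  have h := fact_orbit_card X (flag root) SylTwo (fun g hg => hg.1) fun g hg =>
    ⟨fun e => ⟨hg, e⟩, fun e => e.2⟩
  rw [orbit_root, Set.InjOn.ncard_image (fun i hi k hk => flag_inj (Set.mem_Iio.1 hi) (Set.mem_Iio.1 hk)), card_X] at h
  rw [show (Set.Iio 8775 : Set ℕ).ncard = 8775 by
    rw [← Finset.coe_Iio, Set.ncard_coe_finset, Nat.card_Iio]] at h
  omega

theorem conj_le (L : Subgroup (Equiv.Perm V)) (hLX : L ≤ X) {p k : ℕ} [Fact p.Prime]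
    (S : Subgroup (Equiv.Perm V)) (hSX : S ≤ X) (hS : Nat.card S = p ^ k) (hmax : ¬ p ^ (k + 1) ∣ 35942400)
    (hdvd : p ^ k ∣ Nat.card L) : ∃ x ∈ X, ∀ s ∈ S, x * s * x⁻¹ ∈ L := by
  obtain ⟨Q, hQ⟩ := Sylow.exists_subgroup_card_pow_prime (G := L) p hdvd
  have hfac : ∀ R : Subgroup X, Nat.card R = p ^ k → Nat.card R = p ^ (Nat.card X).factorization p := by
    intro R hR
    rw [hR, card_X]
    congr 1
    have hp := (Fact.out : p.Prime)
    have h1 : p ^ k ∣ 35942400 := hR ▸ card_X ▸ Subgroup.card_subgroup_dvd_card R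
    refine le_antisymm ((hp.pow_dvd_iff_le_factorization (by norm_num)).1 h1) ?_
    by_contra hlt
    exact hmax ((hp.pow_dvd_iff_le_factorization (by norm_num)).2 (by omega))
  let S' : Sylow p X := Sylow.ofCard (S.subgroupOf X)
    (hfac _ ((Nat.card_congr (Subgroup.subgroupOfEquivOfLe hSX).toEquiv).trans hS))
  let Q' : Sylow p X := Sylow.ofCard ((Q.map L.subtype).subgroupOf X) (hfac _ (by
    rw [Nat.card_congr (Subgroup.subgroupOfEquivOfLe ((Subgroup.map_subtype_le Q).trans hLX)).toEquiv,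
      Subgroup.card_map_of_injective L.subtype_injective, hQ]))
  obtain ⟨x, hx⟩ := MulAction.exists_smul_eq X S' Q'
  refine ⟨x.1, x.2, fun s hs => ?_⟩
  have h1 : x * ⟨s, hSX hs⟩ * x⁻¹ ∈ (x • S' : Sylow p X).1 := by
    rw [Sylow.coe_subgroup_smul]
    exact ⟨⟨s, hSX hs⟩, hs, rfl⟩
  rw [hx] at h1
  exact (Subgroup.map_subtype_le Q) h1

/-- **A subgroup of index 1755 fixes a point of the orbit of length 1755.** -/
theorem stab_of_index_N (L : Subgroup (Equiv.Perm V)) (hLX : L ≤ X) (hL : Nat.card L = 20480) :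
    ∃ n, InN n ∧ ∀ g ∈ L, g n = n := by
  haveI : Fact (Nat.Prime 2) := ⟨Nat.prime_two⟩
  obtain ⟨x, hx, hxS⟩ := conj_le L hLX (p := 2) (k := 12) SylTwo (fun g hg => hg.1) card_SylTwo (by norm_num)
    (by rw [hL]; norm_num)
  let L' : Subgroup (Equiv.Perm V) := L.comap (MulAut.conj x).toMonoidHom
  have hL'X : L' ≤ X := fun g hg => by
    have hgx : x * g * x⁻¹ ∈ X := hLX hg
    have := mul_mem (mul_mem (inv_mem hx) hgx) hx
    simpa [mul_assoc] using this
  have hL'card : Nat.card L' = 20480 := by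
    have e : L' = L.map ((MulAut.conj x).symm : Equiv.Perm V →* Equiv.Perm V) :=
      Subgroup.comap_equiv_eq_map_symm (MulAut.conj x) L
    rw [e, Subgroup.card_map_of_injective (MulAut.conj x).symm.injective, hL]
  have hSL : SylTwo ≤ L' := fun s hs => hxS s hs
  have hcnt := fact_orbit_card L' (flag root) SylTwo hSL fun g hg => ⟨fun e => ⟨hL'X hg, e⟩, fun e => e.2⟩
  rw [card_SylTwo, hL'card] at hcnt
  set O := {f' | ∃ g ∈ L', fact g (flag root) = f'} with hO
  have hO5 : O.ncard = 5 := by omega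
  have hsub : O ⊆ flag '' Set.Iio 8775 := by
    rw [← orbit_root]
    rintro f ⟨g, hg, e⟩
    exact ⟨g, hL'X hg, e⟩
  have hstab : ∀ j < 3, ∀ i < 8775, flag i ∈ O → sx j i < 8775 ∧ flag (sx j i) ∈ O := by
    intro j hj i hi hiO
    have hw : ∀ x ∈ sWords.getD j [], x ∈ hLet := by
      have h := spread_ok.2.2.2.2.2.2
      simp only [List.all_eq_true, Bool.or_eq_true, beq_iff_eq] at h
      intro y hy
      have : j < sWords.length := hj
      rw [List.getD_eq_getElem _ _ this] at hy
      rcases h _ (List.getElem_mem this) y hy with (((e | e) | e) | e) | e <;> subst e <;> decide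
    obtain ⟨hk, e⟩ := step_spec (fun x hx => hLet_small _ (hw x hx)) hi ((rowOK hi).snext j hj)
    refine ⟨hk, ?_⟩
    have hroot : stepB (sWords.getD j []) root root = true := by
      interval_cases j
      exacts [spread_ok.2.1, spread_ok.2.2.1, spread_ok.2.2.2.1]
    have hS : wp (sWords.getD j []) ∈ SylTwo :=
      ⟨wp_mem_X hw, (step_spec (fun x hx => hLet_small _ (hw x hx)) root_lt hroot).2⟩
    obtain ⟨g, hg, eg⟩ := hiO
    exact ⟨wp (sWords.getD j []) * g, mul_mem (hSL hS) hg, by rw [fact_mul, eg, e]⟩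
  have hpath : ∀ w : List ℕ, (∀ a ∈ w, a < 3) → ∀ i < 8775, flag i ∈ O →
      spath w i < 8775 ∧ flag (spath w i) ∈ O := by
    intro w
    induction w with
    | nil => intro _ i hi h; exact ⟨hi, h⟩
    | cons a w ih =>
      intro hw i hi h
      obtain ⟨h1, h2⟩ := ih (fun b hb => hw b (List.mem_cons_of_mem _ hb)) i hi h
      exact hstab a (hw a List.mem_cons_self) _ h1 h2
  have hrep : ∀ i < 8775, flag i ∈ O → flag (reps.getD (cls.get 8 i) 0) ∈ O := by
    intro i
    induction' hd : sdepth.get 8 i using Nat.strong_induction_on with d ih generalizing i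
    intro hi h
    by_cases he : i = reps.getD (cls.get 8 i) 0
    · rwa [← he]
    obtain ⟨h1, h2⟩ := (rowOK hi).down he
    obtain ⟨hk, hkO⟩ := hstab _ (rowOK hi).hlet i hi h
    have := ih _ (hd ▸ h1) _ rfl hk hkO
    rwa [h2] at this
  have hspread : ∀ c < 16, flag (reps.getD c 0) ∈ O →
      ((spread.getD c []).map fun w => spath w (reps.getD c 0)).Nodup ∧
      ∀ k ∈ (spread.getD c []).map fun w => spath w (reps.getD c 0), k < 8775 ∧ flag k ∈ O ∧ cls.get 8 k = c := by
    intro c hc h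
    have hs := spread_ok.1
    have hs' := allFrom_spec hs c (Nat.zero_le _) (by omega)
    simp only [Bool.and_eq_true] at hs'
    obtain ⟨⟨⟨⟨h1, h2⟩, h3⟩, h4⟩, -⟩ := hs'
    refine ⟨nodupB_spec h1, fun k hk => ?_⟩
    have hc' := Nat.eq_of_beq_eq_true (allList_spec h2 k hk)
    obtain ⟨w, hw, rfl⟩ := List.mem_map.1 hk
    simp only [List.all_eq_true] at h3
    obtain ⟨e1, e2⟩ := hpath w (fun a ha => Nat.le_of_ble_eq_true (h3 w hw a ha)) _ (Nat.le_of_ble_eq_true h4) h
    exact ⟨e1, e2, hc'⟩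
  classical
  set I : Finset ℕ := (Finset.range 8775).filter fun i => flag i ∈ O with hI
  have hIO : O = flag '' (I : Set ℕ) := by
    refine Set.ext fun f => ⟨fun hf => ?_, ?_⟩
    · obtain ⟨i, hi, rfl⟩ := hsub hf
      exact ⟨i, by simpa [hI] using ⟨hi, hf⟩, rfl⟩
    · rintro ⟨i, hi, rfl⟩
      simp [hI] at hi
      exact hi.2
  have hI5 : I.card = 5 := by
    rw [← hO5, hIO, Set.InjOn.ncard_image (fun i hi k hk => flag_inj (by simp [hI] at hi; exact hi.1)
      (by simp [hI] at hk; exact hk.1)), Set.ncard_coe_finset]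
  have hlists : ∀ c < 16, flag (reps.getD c 0) ∈ O →
      (spread.getD c []).length ≤ (I.filter fun k => cls.get 8 k = c).card := by
    intro c hc h
    obtain ⟨h1, h2⟩ := hspread c hc h
    rw [← List.length_map (f := fun w => spath w (reps.getD c 0)), ← List.toFinset_card_of_nodup h1]
    exact Finset.card_le_card fun k hk => by
      obtain ⟨e1, e2, e3⟩ := h2 k (List.mem_toFinset.1 hk)
      simp [hI, e1, e2, e3]
  have hlen : ∀ c < 16, c ≠ 0 → ((c = 1 ∧ (spread.getD c []).length = 2) ∨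
      (c = 2 ∧ (spread.getD c []).length = 4) ∨ (spread.getD c []).length = 6) := by
    intro c hc hne
    have hs := allFrom_spec spread_ok.1 c (Nat.zero_le _) (by omega)
    simp only [Bool.and_eq_true, Bool.or_eq_true] at hs
    obtain ⟨-, (((e | ⟨e, e'⟩) | ⟨e, e'⟩) | e)⟩ := hs
    · exact absurd (Nat.eq_of_beq_eq_true e) hne
    · exact Or.inl ⟨Nat.eq_of_beq_eq_true e, Nat.eq_of_beq_eq_true e'⟩
    · exact Or.inr (Or.inl ⟨Nat.eq_of_beq_eq_true e, Nat.eq_of_beq_eq_true e'⟩)
    · exact Or.inr (Or.inr (Nat.eq_of_beq_eq_true e))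
  have hrootI : root ∈ I := by
    simpa [hI] using ⟨root_lt, (⟨1, one_mem _, fact_one _⟩ : flag root ∈ O)⟩
  have hroot0 : ∀ i ∈ I, cls.get 8 i = 0 → i = root := fun i hi => (rowOK (by simp [hI] at hi; exact hi.1)).zero
  have hbad : ∀ i ∈ I, cls.get 8 i = 0 ∨ cls.get 8 i = 2 := by
    intro i hi
    have hi' : i < 8775 ∧ flag i ∈ O := by simpa [hI] using hi
    by_contra hne
    push Not at hne
    have hc := (rowOK hi'.1).hcls
    have h1 := hlists _ hc (hrep i hi'.1 hi'.2)
    have hle := Finset.card_le_card (Finset.filter_subset (fun k => cls.get 8 k = cls.get 8 i) I)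
    rcases hlen _ hc hne.1 with ⟨e1, e2⟩ | ⟨e1, e2⟩ | e2
    · by_cases h4 : ∃ k ∈ I, cls.get 8 k = 2
      · obtain ⟨k, hk, hk2⟩ := h4
        have hk' : k < 8775 ∧ flag k ∈ O := by simpa [hI] using hk
        have h2 := hlists 2 (by norm_num) (hk2 ▸ hrep k hk'.1 hk'.2)
        rcases hlen 2 (by norm_num) (by norm_num) with ⟨e, -⟩ | ⟨-, e⟩ | e
        · exact absurd e (by norm_num)
        all_goals
          have hd : (I.filter fun k => cls.get 8 k = cls.get 8 i).card + (I.filter fun k => cls.get 8 k = 2).card ≤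
              I.card := by
            rw [← Finset.card_union_of_disjoint]
            · exact Finset.card_le_card (Finset.union_subset (Finset.filter_subset _ _) (Finset.filter_subset _ _))
            · rw [Finset.disjoint_filter]; intro k _ a b; omega
          omega
      · have hcover : I ⊆ {root} ∪ I.filter fun k => cls.get 8 k = 1 := fun k hk => by
          simp only [Finset.mem_union, Finset.mem_singleton, Finset.mem_filter]
          by_contra hk'
          push Not at hk'
          have hkk : k < 8775 ∧ flag k ∈ O := by simpa [hI] using hk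
          have hck := (rowOK hkk.1).hcls
          have n0' : cls.get 8 k ≠ 0 := fun e => hk'.1 (hroot0 k hk e)
          rcases hlen _ hck n0' with ⟨a, -⟩ | ⟨a, -⟩ | a
          · exact hk'.2 hk a
          · exact h4 ⟨k, hk, a⟩
          · have := hlists _ hck (hrep k hkk.1 hkk.2)
            have := Finset.card_le_card (Finset.filter_subset (fun q => cls.get 8 q = cls.get 8 k) I)
            omega
        have h3 := (Finset.card_le_card hcover).trans (Finset.card_union_le _ _)
        rw [Finset.card_singleton] at h3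
        have hmem : (I.filter fun k => cls.get 8 k = 1).card ≤ 2 := by
          refine le_trans (Finset.card_le_card (t := ((spread.getD 1 []).map fun w => spath w (reps.getD 1 0)).toFinset)
            fun k hk => ?_) (le_trans (List.toFinset_card_le _) (by rw [List.length_map, ← e1, e2]))
          have hk' := Finset.mem_filter.1 hk
          have hkk : k < 8775 ∧ flag k ∈ O := by simpa [hI] using hk'.1
          have := allFrom_spec two_listed k (Nat.zero_le _) (by omega)
          rw [hk'.2] at this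
          simp at this
          exact List.mem_toFinset.2 (memNat_spec this)
        omega
    · exact hne.2 e1
    · omega
  refine ⟨x n0, (inN_map hx n0).2 ((inN_iff n0).2 ⟨1, one_mem _, rfl⟩), fun g hg => ?_⟩
  have hg' : x⁻¹ * g * x ∈ L' := by
    show x * (x⁻¹ * g * x) * x⁻¹ ∈ L
    simpa [mul_assoc] using hg
  have hmem : fact (x⁻¹ * g * x) (flag root) ∈ O := ⟨_, hg', rfl⟩
  rw [hIO] at hmem
  obtain ⟨i, hi, he⟩ := hmem
  have hfst : (x⁻¹ * g * x) n0 = n0 := by
    have h := congrArg Prod.fst he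
    rw [show (fact (x⁻¹ * g * x) (flag root)).1 = (x⁻¹ * g * x) (flag root).1 from rfl, root_point] at h
    rw [← h]
    rcases hbad i hi with e | e
    · rw [hroot0 i hi e]; exact root_point
    · exact congrArg pt ((rowOK (by simp [hI] at hi; exact hi.1)).two e)
  simp only [Equiv.Perm.mul_apply] at hfst
  exact (Equiv.Perm.inv_eq_iff_eq.1 hfst)

end CfsgLib.Spor.RuThree
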