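import Cfsg.Agent.Lib.Spor.RuThree.FlagDefs
import Cfsg.Agent.Lib.Spor.RuThree.SylData

/-!
# Sylow 5-subgroups as sets of four points
-/

set_option autoImplicit false
set_option maxRecDepth 100000

namespace CfsgLib.Spor.RuThree

open CfsgLib.Spor.TC
open CfsgLib.Spor.RuThree.FlagData (memNat_complete nodupB)

/-- Pairs reached from one pair by words, in increasing order. -/
structure PairTree where
  n : ℕ
  root : ℕ
  x : ℕ → ℕ
  y : ℕ → ℕ
  par : ℕ → ℕ
  lt : ℕ → ℕ
  dep : ℕ → ℕ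
  words : List (List ℕ)

/-- The check of a tree of pairs at one index. -/
noncomputable def PairTree.rowB (P : PairTree) (i : ℕ) : Bool :=
  Nat.blt (P.x i) 4060 && Nat.blt (P.y i) 4060 &&
    (Nat.beq i 0 || Nat.blt (Nat.add (Nat.mul (P.x (Nat.sub i 1)) 4096) (P.y (Nat.sub i 1)))
      (Nat.add (Nat.mul (P.x i) 4096) (P.y i))) &&
    (Nat.beq i P.root || Nat.blt (P.par i) P.n && Nat.blt (P.dep (P.par i)) (P.dep i) &&
      Nat.blt (P.lt i) P.words.length &&
      Nat.beq (wv (P.words.getD (P.lt i) []) (P.x (P.par i))) (P.x i) &&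
      Nat.beq (wv (P.words.getD (P.lt i) []) (P.y (P.par i))) (P.y i))

/-- The check of the letters of the words of a tree. -/
def PairTree.wordsB (P : PairTree) : Bool := P.words.all fun w => w.all fun a => decide (a < 32)

/-- A power of a word acting on numbers. -/
noncomputable def pwv (w : List ℕ) (n c : ℕ) : ℕ := Ru.ActR.act.wpow w n c

namespace SylData

/-- The four points. -/
noncomputable def ql (i : ℕ) : List ℕ := [q0.get 16 i, q1.get 16 i, q2.get 16 i, q3.get 16 i]

/-- The code of a set. -/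
noncomputable def code (i : ℕ) : ℕ :=
  Nat.add (Nat.mul (Nat.add (Nat.mul (Nat.add (Nat.mul (q0.get 16 i) 4096) (q1.get 16 i)) 4096) (q2.get 16 i)) 4096)
    (q3.get 16 i)

/-- A word maps the set `i` to the set `k`. -/
noncomputable def stepB (w : List ℕ) (i k : ℕ) : Bool :=
  Nat.blt k 14976 && allList (fun q => memNat (wv w q) (ql k)) (ql i)

/-- The successors by the letters of the stabiliser. -/
noncomputable def nx (j i : ℕ) : ℕ :=
  Bool.rec (Bool.rec (Bool.rec (Bool.rec (nx4.get 16 i) (nx3.get 16 i) (Nat.beq j 3)) (nx2.get 16 i) (Nat.beq j 2))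
    (nx1.get 16 i) (Nat.beq j 1)) (nx0.get 16 i) (Nat.beq j 0)

/-- The successors by the normaliser of the subgroup of order 13. -/
noncomputable def nm (j i : ℕ) : ℕ := Bool.rec (nn.get 16 i) (ny.get 16 i) (Nat.beq j 0)

/-- The words of the normaliser. -/
noncomputable def nw (j : ℕ) : List ℕ := Bool.rec wn wy (Nat.beq j 0)

/-- The representative of a class. -/
noncomputable def repOf (r : ℕ) : ℕ := (cases.getD r (0, [], [], 0, 0, 0)).1

/-- The check at one set. -/
noncomputable def rowB (i : ℕ) : Bool :=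
  Nat.blt (q0.get 16 i) (q1.get 16 i) && Nat.blt (q1.get 16 i) (q2.get 16 i) &&
    Nat.blt (q2.get 16 i) (q3.get 16 i) && Nat.blt (q3.get 16 i) 4060 &&
    (Nat.beq i 0 || Nat.blt (code (Nat.sub i 1)) (code i)) &&
    stepB [0] i (nx 0 i) && stepB [1] i (nx 1 i) && stepB [2] i (nx 2 i) && stepB [3] i (nx 3 i) &&
    stepB [5] i (nx 4 i) &&
    (Nat.beq i root || Nat.blt (par.get 16 i) 14976 && Nat.blt (depth.get 8 (par.get 16 i)) (depth.get 8 i) &&
      Nat.blt (plet.get 8 i) 4 && Nat.beq (nx (plet.get 8 i) (par.get 16 i)) i) &&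
    stepB wy i (nm 0 i) && stepB wn i (nm 1 i) &&
    Nat.blt (rid.get 8 i) cases.length && Nat.blt (nlet.get 8 i) 2 &&
    (Nat.beq i (repOf (rid.get 8 i)) ||
      Nat.blt (ndepth.get 8 (nm (nlet.get 8 i) i)) (ndepth.get 8 i))

/-- A word in the conjugated generators, as a word in the letters. -/
noncomputable def subst (W : List ℕ) (u : List ℕ) : List ℕ :=
  List.rec (motive := fun _ => List ℕ) []
    (fun a _ ih => Bool.rec (Bool.rec wy (W ++ wb ++ W.reverse) (Nat.beq a 1)) (W ++ wa ++ W.reverse)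
      (Nat.beq a 0) ++ ih) u

/-- The check of one class: a point fixed by the subgroup generated, or an element of order divisible by 16 and a
generator moving the subgroup of order 13. -/
noncomputable def caseB (r : ℕ) : Bool :=
  allList (fun a => Nat.blt a 4) (cases.getD r (0, [], [], 0, 0, 0)).2.1 &&
  stepB (cases.getD r (0, [], [], 0, 0, 0)).2.1 root (repOf r) &&
  (Nat.beq r 0 && Nat.beq (cases.getD r (0, [], [], 0, 0, 0)).2.1.length 0 ||
    allList (fun a => Nat.blt a 3) (cases.getD r (0, [], [], 0, 0, 0)).2.2.1 &&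
    Nat.blt (cases.getD r (0, [], [], 0, 0, 0)).2.2.2.1 4060 &&
    Nat.beq (pwv (subst (cases.getD r (0, [], [], 0, 0, 0)).2.1 (cases.getD r (0, [], [], 0, 0, 0)).2.2.1) 16
      (cases.getD r (0, [], [], 0, 0, 0)).2.2.2.1) (cases.getD r (0, [], [], 0, 0, 0)).2.2.2.1 &&
    !(Nat.beq (pwv (subst (cases.getD r (0, [], [], 0, 0, 0)).2.1
      (cases.getD r (0, [], [], 0, 0, 0)).2.2.1) 8
      (cases.getD r (0, [], [], 0, 0, 0)).2.2.2.1) (cases.getD r (0, [], [], 0, 0, 0)).2.2.2.1) &&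
    Nat.blt (cases.getD r (0, [], [], 0, 0, 0)).2.2.2.2.1 2 &&
    Nat.blt (cases.getD r (0, [], [], 0, 0, 0)).2.2.2.2.2 4060 &&
    Nat.beq (wv wy (cases.getD r (0, [], [], 0, 0, 0)).2.2.2.2.2) (cases.getD r (0, [], [], 0, 0, 0)).2.2.2.2.2 &&
    !(Nat.beq
      (wv (wy ++ subst (cases.getD r (0, [], [], 0, 0, 0)).2.1 [(cases.getD r (0, [], [], 0, 0, 0)).2.2.2.2.1])
        (cases.getD r (0, [], [], 0, 0, 0)).2.2.2.2.2)
      (wv (subst (cases.getD r (0, [], [], 0, 0, 0)).2.1 [(cases.getD r (0, [], [], 0, 0, 0)).2.2.2.2.1])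
        (cases.getD r (0, [], [], 0, 0, 0)).2.2.2.2.2)))

/-- The pairs of the subgroup fixing a point. -/
noncomputable def dTree : PairTree :=
  ⟨5201, pairRoots.1, dX.get 16, dY.get 16, dPar.get 16, dLet.get 8, dDep.get 8, [wa, wb, wy]⟩

/-- The pairs of the stabiliser of the root set. -/
noncomputable def sTree : PairTree :=
  ⟨1201, pairRoots.2, sX.get 16, sY.get 16, sPar.get 16, sLet.get 8, sDep.get 8, stabGens.map Prod.fst⟩

/-- The word for a product of powers of the two generators. -/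
def five (i j : ℕ) : List ℕ := (List.replicate i wa).flatten ++ (List.replicate j wb).flatten

/-- The relations of the elements used. -/
noncomputable def relsB (c : ℕ) : Bool :=
  Nat.beq (pwv wy 13 c) c &&
    Nat.beq (pwv wa 5 c) c && Nat.beq (pwv wb 5 c) c &&
    Nat.beq (wv (wa ++ wb) c) (wv (wb ++ wa) c) &&
    Nat.beq (wv (wn ++ wy) c) (wv ((List.replicate kn wy).flatten ++ wn) c) &&
    (stabGens.all fun t =>
      Nat.beq (wv (t.1 ++ wa) c) (wv (five t.2.1.1 t.2.1.2 ++ t.1) c) &&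
        Nat.beq (wv (t.1 ++ wb) c) (wv (five t.2.2.1 t.2.2.2 ++ t.1) c)) &&
    (Nat.beq c 0 || Nat.beq c 1 || !(Nat.beq (wv wa c) c) || !(Nat.beq (wv wb c) c) || !(Nat.beq (wv wy c) c))

/-- The single facts about the elements used. -/
noncomputable def miscB : Bool :=
  (wa ++ wb ++ wy ++ wn ++ (stabGens.map Prod.fst).flatten).all (fun a => decide (a < 32)) &&
    Nat.beq (wv wa 0) 0 && Nat.beq (wv wb 0) 0 && Nat.beq (wv wy 0) 0 && Nat.beq (wv wn 0) 0 &&
    Nat.beq (wv wa 1) 1 && Nat.beq (wv wb 1) 1 && Nat.beq (wv wy 1) 1 &&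
    (stabGens.all fun t =>
      Nat.beq (wv t.1 0) 0 && stepB t.1 root root &&
        Nat.blt t.2.1.1 5 && Nat.blt t.2.1.2 5 && Nat.blt t.2.2.1 5 && Nat.blt t.2.2.2 5) &&
    Nat.blt root 14976 && dTree.wordsB && sTree.wordsB && Nat.blt dTree.root dTree.n &&
    Nat.blt sTree.root sTree.n && Nat.beq kn (kn % 13) && !(Nat.beq kn 0) &&
    nodupB ((List.range 25).map fun t =>
      Nat.add (Nat.mul (wv (five (t / 5) (t % 5)) pairFive.1) 4096) (wv (five (t / 5) (t % 5)) pairFive.2)) &&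
    Nat.blt pairFive.1 4060 && Nat.blt pairFive.2 4060 && !(Nat.beq (wv wy 2) 2)

end SylData

end CfsgLib.Spor.RuThree
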